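import Cfsg.Agent.H53.HC.RgdLevi

/-!
# Weyl group elements permuting the simple roots of a maximal parabolic subsystem (hub H5, helper53)

`J` = all nodes except `j`; `w ∉ W_J` permuting the simple roots of `J`.

* `apply_eq_neg` : `(w x) j = - x j`;
* `swap_of_iso` : if `J` has only one isolated component `{k₀, k₁}` of type `A_2`, and `k₁` is not joined to `j`, then `w`
  interchanges `k₀` and `k₁`;
* `swap_or` : the same for two such components.
-/

set_option autoImplicit false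

namespace Cfsg.Agent.H53.HC

open CoxeterSystem Cfsg.Agent.ChevalleyStructure.CoxeterGeom Cfsg.Agent.Tits.Roots Cfsg.Agent.Tits.Core
  Cfsg.Agent.Tits.Exchange Cfsg.Agent.Nodes.Reps Cfsg.Agent.Nodes.BNOf Cfsg.Agent.Nodes.StabComb

variable {I W : Type*} [Fintype I] [DecidableEq I] [Group W] {M : CoxeterMatrix I}
  {cs : CoxeterSystem M W} {A : I → I → ℤ} {h : IsCartan M A}

/-- an element keeping all the simple roots positive is trivial -/
theorem eq_one_of_nonneg {w : W} (hw : ∀ i, 0 ≤ rep cs h w (sr i)) : w = 1 := by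
  by_contra hne
  obtain ⟨i, hi⟩ := cs.exists_rightDescent_of_ne_one hne
  have h1 : rep cs h w (sr i) ≤ 0 := nonpos_of_lt cs h w i hi
  exact ((isRoot_sr cs h i).act w).not_pos_neg (hw i) h1

theorem Perm.inv {J : Set I} {w : W} (hw : Perm cs h J w) : Perm cs h J w⁻¹ :=
  ⟨by rw [inv_inv]; exact hw.2, hw.1⟩

theorem apply_eq_mul {J : Set I} {j : I} (hJ : ∀ i, i ∈ J ↔ i ≠ j) {w : W}
    (hw : ∀ i ∈ J, ∃ k ∈ J, rep cs h w (sr i) = sr k) (x : I → ℤ) :
    rep cs h w x j = x j * rep cs h w (sr j) j := by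
  conv_lhs => rw [eq_sum_sr x, map_sum, Finset.sum_apply]
  rw [Finset.sum_eq_single j]
  · rw [map_smul, Pi.smul_apply, smul_eq_mul]
  · intro i _ hi
    obtain ⟨k, hk, e⟩ := hw i ((hJ i).2 hi)
    rw [map_smul, Pi.smul_apply, e, sr_ne (fun hkj => (hJ k).1 hk hkj.symm), smul_zero]
  · intro hj
    exact absurd (Finset.mem_univ j) hj

theorem apply_eq_neg {J : Set I} {j : I} (hJ : ∀ i, i ∈ J ↔ i ≠ j) {w : W} (hw : Perm cs h J w)
    (hwJ : w ∉ WJ cs J) (x : I → ℤ) : rep cs h w x j = - x j := by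
  have h1 := apply_eq_mul hJ hw.2 (rep cs h w⁻¹ (sr j))
  rw [rep_apply_inv, sr_self] at h1
  have hu : IsUnit (rep cs h w (sr j) j) := IsUnit.of_mul_eq_one _ (by rw [mul_comm]; exact h1.symm)
  rcases Int.isUnit_iff.1 hu with h2 | h2
  · exfalso
    apply hwJ
    have h3 : w = 1 := by
      refine eq_one_of_nonneg (cs := cs) (h := h) fun i => ?_
      by_cases hi : i = j
      · subst hi
        rcases ((isRoot_sr cs h i).act w).pos_or_neg with h4 | h4
        · exact h4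
        · have := h4 i
          rw [h2] at this
          exact absurd this (by simp)
      · obtain ⟨k, -, e⟩ := hw.2 i ((hJ i).2 hi)
        rw [e]
        exact sr_nonneg k
    rw [h3]
    exact one_mem _
  · rw [apply_eq_mul hJ hw.2, h2, mul_neg_one]

theorem pairing_rep [Finite W] {w : W} {i k : I} (hw : rep cs h w (sr i) = sr k) (x : I → ℤ) :
    pairing A k (rep cs h w x) = pairing A i x := by
  have := Fintype.ofFinite W
  have h1 := two_form cs h k (rep cs h w x)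
  have h2 := two_form cs h i x
  rw [← hw, form_rep, form_rep] at h1
  have h3 := form_pos cs h (sr_ne_zero i)
  rw [h2] at h1
  exact (mul_right_cancel₀ h3.ne' h1).symm

theorem cartan_rep [Finite W] {w : W} {i k i' k' : I} (hi : rep cs h w (sr i) = sr i')
    (hk : rep cs h w (sr k) = sr k') : A i' k' = A i k := by
  have h1 := pairing_rep hi (sr k)
  rw [hk] at h1
  rwa [sr, sr, pairing_single, pairing_single, mul_one, mul_one] at h1

/-- `{a, b}` is a component of type `A_2` of `J`, and `b` is not joined to `j` -/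
def IsoPair (A : I → I → ℤ) (J : Set I) (a b : I) : Prop :=
  a ∈ J ∧ b ∈ J ∧ a ≠ b ∧ A a b = -1 ∧ A b a = -1 ∧ ∀ c ∈ J, c ≠ a → c ≠ b → A a c = 0 ∧ A b c = 0

omit [Fintype I] [DecidableEq I] in
theorem IsoPair.symm {J : Set I} {a b : I} (hab : IsoPair A J a b) : IsoPair A J b a :=
  ⟨hab.2.1, hab.1, hab.2.2.1.symm, hab.2.2.2.2.1, hab.2.2.2.1, fun c hc h1 h2 => (hab.2.2.2.2.2 c hc h2 h1).symm⟩

theorem IsoPair.image [Finite W] {J : Set I} {a b : I} (hab : IsoPair A J a b) {w : W} (hw : Perm cs h J w) {a' b' : I}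
    (ha : rep cs h w (sr a) = sr a') (hb : rep cs h w (sr b) = sr b') : IsoPair A J a' b' := by
  have hinj : ∀ {i k : I}, (sr i : I → ℤ) = sr k → i = k := by
    intro i k hik
    by_contra hne
    have := congrFun hik i
    rw [sr_self, sr_ne hne] at this
    exact one_ne_zero this
  obtain ⟨h1, h2, h3, h4, h5, h6⟩ := hab
  have hmem : ∀ i ∈ J, ∀ i', rep cs h w (sr i) = sr i' → i' ∈ J := by
    intro i hi i' hi'
    obtain ⟨k, hk, e⟩ := hw.2 i hi
    rwa [← hinj (e.symm.trans hi')]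
  refine ⟨hmem a h1 a' ha, hmem b h2 b' hb, ?_, ?_, ?_, ?_⟩
  · rintro rfl
    apply h3
    apply hinj
    rw [← rep_inv_apply cs h w (sr a), ha, ← hb, rep_inv_apply]
  · rw [cartan_rep ha hb, h4]
  · rw [cartan_rep hb ha, h5]
  · intro c hc hca hcb
    obtain ⟨d, hd, e⟩ := hw.1 c hc
    have e' : rep cs h w (sr d) = sr c := by rw [← e, rep_apply_inv]
    have hda : d ≠ a := by
      rintro rfl
      exact hca (hinj (e'.symm.trans ha))
    have hdb : d ≠ b := by
      rintro rfl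
      exact hcb (hinj (e'.symm.trans hb))
    rw [cartan_rep ha e', cartan_rep hb e']
    exact h6 d hd hda hdb

/-- the pairing on a vector in terms of the three relevant coordinates -/
theorem IsoPair.pairing_left {J : Set I} {j : I} (hJ : ∀ i, i ∈ J ↔ i ≠ j) (h : IsCartan M A) {a b : I}
    (hab : IsoPair A J a b) (x : I → ℤ) : pairing A a x = 2 * x a - x b + A a j * x j := by
  obtain ⟨h1, h2, h3, h4, h5, h6⟩ := hab
  have haj : a ≠ j := (hJ a).1 h1
  have hbj : b ≠ j := (hJ b).1 h2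
  unfold pairing
  rw [← Finset.sum_subset (Finset.subset_univ {a, b, j})]
  · rw [Finset.sum_insert (by simp [h3, haj]), Finset.sum_insert (by simp [hbj]), Finset.sum_singleton, h.diag, h4]
    ring
  · intro c _ hc
    simp only [Finset.mem_insert, Finset.mem_singleton, not_or] at hc
    rw [(h6 c ((hJ c).2 hc.2.2) hc.1 hc.2.1).1, zero_mul]

/-- An element permuting `J` and not in `W_J` cannot map an `A_2`-component to another one respecting the neighbour
of `j`. -/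
theorem IsoPair.not_respect [Finite W] {J : Set I} {j : I} (hJ : ∀ i, i ∈ J ↔ i ≠ j) {a b a' b' : I}
    (hab' : IsoPair A J a' b') (hb : A b j = 0) (hb' : A b' j = 0) (h3 : ¬ (3 : ℤ) ∣ A a j)
    (haa : A a' j = A a j) {w : W} (hw : Perm cs h J w) (hwJ : w ∉ WJ cs J)
    (hwa : rep cs h w (sr a) = sr a') (hwb : rep cs h w (sr b) = sr b') : False := by
  have e1 := pairing_rep hwa (sr j)
  have e2 := pairing_rep hwb (sr j)
  have e3 := apply_eq_neg hJ hw hwJ (sr j)
  rw [sr_self] at e3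
  rw [hab'.pairing_left hJ h, e3, haa] at e1
  rw [hab'.symm.pairing_left hJ h, e3, hb'] at e2
  rw [sr, pairing_single, mul_one] at e1 e2
  rw [hb] at e2
  apply h3
  change 2 * rep cs h w (sr j) a' - rep cs h w (sr j) b' + A a j * -1 = A a j at e1
  change 2 * rep cs h w (sr j) b' - rep cs h w (sr j) a' + 0 * -1 = 0 at e2
  have e4 : 3 * rep cs h w (sr j) b' = 2 * A a j := by linarith
  omega

/-- **One component of type `A_2`**: it is reversed. -/
theorem swap_of_iso [Finite W] {J : Set I} {j : I} (hJ : ∀ i, i ∈ J ↔ i ≠ j) {k₀ k₁ : I} (hk : IsoPair A J k₀ k₁)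
    (hk1 : A k₁ j = 0) (h3 : ¬ (3 : ℤ) ∣ A k₀ j)
    (hun : ∀ a b, IsoPair A J a b → (a = k₀ ∧ b = k₁) ∨ (a = k₁ ∧ b = k₀)) {w : W} (hw : Perm cs h J w)
    (hwJ : w ∉ WJ cs J) : rep cs h w (sr k₀) = sr k₁ ∧ rep cs h w (sr k₁) = sr k₀ := by
  obtain ⟨a, -, ha⟩ := hw.2 k₀ hk.1
  obtain ⟨b, -, hb⟩ := hw.2 k₁ hk.2.1
  rcases hun a b (hk.image hw ha hb) with ⟨rfl, rfl⟩ | ⟨rfl, rfl⟩
  · exact (hk.not_respect hJ hk1 hk1 h3 rfl hw hwJ ha hb).elim
  · exact ⟨ha, hb⟩

/-- **Two components of type `A_2`**: both are reversed or they are interchanged. -/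
theorem swap_or [Finite W] {J : Set I} {j : I} (hJ : ∀ i, i ∈ J ↔ i ≠ j) {k₀ k₁ l₀ l₁ : I} (hk : IsoPair A J k₀ k₁)
    (hl : IsoPair A J l₀ l₁) (hk1 : A k₁ j = 0) (hl1 : A l₁ j = 0) (h3 : ¬ (3 : ℤ) ∣ A k₀ j) (hkl : A l₀ j = A k₀ j)
    (hun : ∀ a b, IsoPair A J a b → (a = k₀ ∧ b = k₁) ∨ (a = k₁ ∧ b = k₀) ∨ (a = l₀ ∧ b = l₁) ∨ (a = l₁ ∧ b = l₀))
    {w : W} (hw : Perm cs h J w) (hwJ : w ∉ WJ cs J) :
    (rep cs h w (sr k₀) = sr k₁ ∧ rep cs h w (sr k₁) = sr k₀) ∨
      (rep cs h w (sr k₀) = sr l₁ ∧ rep cs h w (sr k₁) = sr l₀) := by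
  obtain ⟨a, -, ha⟩ := hw.2 k₀ hk.1
  obtain ⟨b, -, hb⟩ := hw.2 k₁ hk.2.1
  rcases hun a b (hk.image hw ha hb) with ⟨rfl, rfl⟩ | ⟨rfl, rfl⟩ | ⟨rfl, rfl⟩ | ⟨rfl, rfl⟩
  · exact (hk.not_respect hJ hk1 hk1 h3 rfl hw hwJ ha hb).elim
  · exact Or.inl ⟨ha, hb⟩
  · exact (hl.not_respect hJ hk1 hl1 h3 hkl hw hwJ ha hb).elim
  · exact Or.inr ⟨ha, hb⟩

end Cfsg.Agent.H53.HC
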