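import Cfsg.Agent.H53.HC.Rgd
import Cfsg.Agent.CharactersDeep.CliffordSum
import Cfsg.Agent.CharDeep.PowerDegrees

/-!
# Cuspidal characters of the derived Levi subgroups (hub H5, helper53)

`projL` : the projection of `P_J = L_J V_J` onto `L_J`.

`exists_over` : Clifford's theorem for subgroups `N ≤ P ≤ N_G(N)`.

`exists_irr_MJ` : `θ` a cuspidal irreducible character of `M_J = ⟨X_x, x ∈ Φ_J⟩` with `θ^g ≠ θ` for all representatives
`g` of the elements `w ∉ W_J` permuting the simple roots of `J`: the group has an irreducible character of degree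
divisible by `|G : P_J| θ(1)`.
-/

set_option autoImplicit false

open scoped ComplexConjugate Pointwise
open Cfsg

namespace Cfsg.Agent.H53.HC

open Cfsg.Agent.OddOrderCharacters.Clifford Cfsg.Agent.Characters

section clif

variable {G : Type*} [Group G]

/-- conjugation by an element of the normaliser -/
def conjME (K : Subgroup G) {g : G} (hg : g ∈ Subgroup.normalizer (K : Set G)) : K ≃* K where
  toFun u := ⟨g * u * g⁻¹, (Subgroup.mem_normalizer_iff.1 hg u).1 u.2⟩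
  invFun u := ⟨g⁻¹ * u * g, by
    have := (Subgroup.mem_normalizer_iff.1 (inv_mem hg) u).1 u.2
    rwa [inv_inv] at this⟩
  left_inv u := by
    apply Subtype.ext
    simp [mul_assoc]
  right_inv u := by
    apply Subtype.ext
    simp [mul_assoc]
  map_mul' u v := by
    apply Subtype.ext
    simp [mul_assoc]

theorem conjME_coe (K : Subgroup G) {g : G} (hg : g ∈ Subgroup.normalizer (K : Set G)) (u : K) :
    (conjME K hg u : G) = g * u * g⁻¹ := rfl

/-- **Clifford's theorem** for subgroups `N ≤ P ≤ N_G(N)`. -/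
theorem exists_over [Finite G] {N P : Subgroup G} (hNP : N ≤ P) (hn : P ≤ Subgroup.normalizer (N : Set G))
    {θ : N → ℂ} (hθ : IsIrrCharacter N θ) :
    ∃ ψ : P → ℂ, IsIrrCharacter P ψ ∧ (∃ m : ℕ, 0 < m ∧ ψ 1 = m * θ 1) ∧
      ∃ (c : ℂ) (s : Finset (N → ℂ)), (∀ x : N, ψ ⟨x, hNP x.2⟩ = c * ∑ φ ∈ s, φ x) ∧
        ∀ φ ∈ s, ∃ g ∈ P, ∀ x (hx : x ∈ N), ∃ hx' : g * x * g⁻¹ ∈ N, φ ⟨x, hx⟩ = θ ⟨g * x * g⁻¹, hx'⟩ := by
  classical
  have : Fintype G := Fintype.ofFinite G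
  have : Fintype P := Fintype.ofFinite P
  have : Fintype N := Fintype.ofFinite N
  let N' : Subgroup P := N.subgroupOf P
  have hN' : N'.Normal := (Subgroup.normal_subgroupOf_iff_le_normalizer hNP).2 hn
  have : Fintype N' := Fintype.ofFinite N'
  let e : N' ≃* N := Subgroup.subgroupOfEquivOfLe hNP
  have hθ' : IsIrrCharacter N' (θ ∘ e) := Core.isIrr_comp e.toMonoidHom e.surjective hθ
  obtain ⟨ψ, hψ, hne⟩ := Cfsg.Agent.CharDeep.PowerDegrees.exists_irr_over N' hθ'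
  refine ⟨ψ, hψ, ?_, classInner (fun n : N' => ψ n) (θ ∘ e),
    (Finset.univ.image (fun x : P => (θ ∘ e) ∘ (MulAut.conjNormal x : MulAut N'))).image (fun φ => φ ∘ e.symm), ?_, ?_⟩
  · obtain ⟨m, hm⟩ := Cfsg.Agent.CharDeep.PowerDegrees.degree_dvd N' hψ hθ' hne
    have h1 : (θ ∘ e) 1 = θ 1 := by rw [Function.comp_apply, map_one]
    rw [h1] at hm
    refine ⟨m, Nat.pos_of_ne_zero ?_, hm⟩
    rintro rfl
    rw [Nat.cast_zero, zero_mul] at hm
    exact Core.isIrr_apply_one_ne_zero hψ hm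
  · intro x
    have h1 := Cfsg.Agent.CharactersDeep.CliffordSum.restrict_eq_smul_sum N' hψ hθ' hne
    have h2 := congrFun h1 (e.symm x)
    rw [Pi.smul_apply, Finset.sum_apply, smul_eq_mul] at h2
    rw [Finset.sum_image (by
      intro a _ b _ hab
      funext z
      have := congrFun hab (e z)
      simpa using this)]
    exact h2
  · intro φ hφ
    obtain ⟨φ', hφ', rfl⟩ := Finset.mem_image.1 hφ
    obtain ⟨g, -, rfl⟩ := Finset.mem_image.1 hφ'
    refine ⟨g, g.2, fun x hx => ?_⟩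
    have h1 : (g : G) * x * (g : G)⁻¹ ∈ N := (Subgroup.mem_normalizer_iff.1 (hn g.2) x).1 hx
    refine ⟨h1, ?_⟩
    rfl

end clif

section rgd

open CoxeterSystem Cfsg.Agent.ChevalleyStructure.CoxeterGeom Cfsg.Agent.Tits.Roots Cfsg.Agent.Tits.Core
  Cfsg.Agent.Tits.Exchange Cfsg.Agent.Nodes.Reps Cfsg.Agent.Nodes.BNOf Cfsg.Agent.Nodes.StabComb
  Cfsg.Agent.Nodes.Bruhat Cfsg.Agent.Nodes.OppDec Cfsg.Agent.Nodes.LeviDec

variable {I W Y : Type*} [Fintype I] [DecidableEq I] [Group W] [Group Y] {M : CoxeterMatrix I}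
  {cs : CoxeterSystem M W} {A : I → I → ℤ} {h : IsCartan M A} {p : ℕ} {T : Subgroup Y} {n : I → Y}
  {X : (I → ℤ) → Subgroup Y}

/-- the subgroup generated by the root groups of `J` -/
def MJ (cs : CoxeterSystem M W) (h : IsCartan M A) (X : (I → ℤ) → Subgroup Y) (J : Set I) : Subgroup Y :=
  RGD.Sup X (RootsJ cs h J)

theorem LJ_eq (J : Set I) : LJ cs h T X J = T ⊔ MJ cs h X J := rfl

theorem MJ_le_LJ (J : Set I) : MJ cs h X J ≤ LJ cs h T X J := le_sup_right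

theorem rad_le_MJ (J : Set I) (i : I) : rad cs h X J i ≤ MJ cs h X J :=
  RGD.Sup_mono fun _ hx => PosJ_subset J hx.1

variable (R : RGD cs h p T n X)

include R

theorem T_le_normalizer_MJ (J : Set I) : T ≤ Subgroup.normalizer (MJ cs h X J : Set Y) :=
  R.T_le_normalizer fun _ hx => hx.1

theorem T_le_normalizer_rad (J : Set I) (i : I) : T ≤ Subgroup.normalizer (rad cs h X J i : Set Y) :=
  R.T_le_normalizer fun _ hx => hx.1.1

theorem LJ_le_normalizer_MJ (J : Set I) : LJ cs h T X J ≤ Subgroup.normalizer (MJ cs h X J : Set Y) :=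
  sup_le (T_le_normalizer_MJ R J) Subgroup.le_normalizer

theorem mem_LJ_iff_mul (J : Set I) {g : Y} :
    g ∈ LJ cs h T X J ↔ ∃ t ∈ T, ∃ m ∈ MJ cs h X J, g = t * m := by
  have h1 : (LJ cs h T X J : Set Y) = (T : Set Y) * (MJ cs h X J : Set Y) :=
    Subgroup.coe_mul_of_left_le_normalizer_right _ _ (T_le_normalizer_MJ R J)
  rw [← SetLike.mem_coe, h1, Set.mem_mul]
  constructor
  · rintro ⟨t, ht, m, hm, e⟩; exact ⟨t, ht, m, hm, e.symm⟩
  · rintro ⟨t, ht, m, hm, e⟩; exact ⟨t, ht, m, hm, e.symm⟩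

theorem mem_LJ_iff_mul' (J : Set I) {g : Y} :
    g ∈ LJ cs h T X J ↔ ∃ m ∈ MJ cs h X J, ∃ t ∈ T, g = m * t := by
  rw [← inv_mem_iff, mem_LJ_iff_mul R J]
  constructor
  · rintro ⟨t, ht, m, hm, e⟩
    exact ⟨m⁻¹, inv_mem hm, t⁻¹, inv_mem ht, by rw [← inv_inv g, e, mul_inv_rev]⟩
  · rintro ⟨m, hm, t, ht, e⟩
    exact ⟨t⁻¹, inv_mem ht, m⁻¹, inv_mem hm, by rw [e, mul_inv_rev]⟩

/-- **The projection of `P_J` onto `L_J`.** -/
theorem exists_projL [Finite W] (J : Set I) : ∃ π : ↥(PJ cs h T X J) →* ↥(LJ cs h T X J),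
    (∀ (l : Y) (hl : l ∈ LJ cs h T X J), π ⟨l, LJ_le_PJ hl⟩ = ⟨l, hl⟩) ∧
      ∀ (v : Y) (hv : v ∈ VJ cs h X J), π ⟨v, VJ_le_PJ hv⟩ = 1 := by
  let V' := (VJ cs h X J).subgroupOf (PJ cs h T X J)
  have hV' : V'.Normal := (Subgroup.normal_subgroupOf_iff_le_normalizer VJ_le_PJ).2 (PJ_le_normalizer_VJ R J)
  let f : ↥(LJ cs h T X J) →* ↥(PJ cs h T X J) ⧸ V' := (QuotientGroup.mk' V').comp (Subgroup.inclusion LJ_le_PJ)
  have hinj : Function.Injective f := by
    rw [injective_iff_map_eq_one]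
    intro l hl
    have h1 : Subgroup.inclusion (LJ_le_PJ (cs := cs) (h := h) (T := T) (X := X) (J := J)) l ∈ V' :=
      (QuotientGroup.eq_one_iff _).1 hl
    rw [Subgroup.mem_subgroupOf] at h1
    exact Subtype.ext (eq_one_of_mem_LJ_of_mem_VJ R l.2 h1)
  have hsurj : Function.Surjective f := by
    intro q
    obtain ⟨⟨g, hg⟩, rfl⟩ := QuotientGroup.mk'_surjective V' q
    obtain ⟨l, hl, v, hv, rfl⟩ := (mem_PJ R).1 hg
    refine ⟨⟨l, hl⟩, ?_⟩
    refine (QuotientGroup.eq (s := V')).2 ?_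
    rw [Subgroup.mem_subgroupOf]
    have e : ((((Subgroup.inclusion (LJ_le_PJ (cs := cs) (h := h) (T := T) (X := X) (J := J)) ⟨l, hl⟩)⁻¹ *
      ⟨l * v, hg⟩ : ↥(PJ cs h T X J))) : Y) = v := by
      change l⁻¹ * (l * v) = v
      group
    rw [e]
    exact hv
  let e : ↥(LJ cs h T X J) ≃* ↥(PJ cs h T X J) ⧸ V' := MulEquiv.ofBijective f ⟨hinj, hsurj⟩
  refine ⟨e.symm.toMonoidHom.comp (QuotientGroup.mk' V'), fun l hl => ?_, fun v hv => ?_⟩
  · change e.symm (f ⟨l, hl⟩) = _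
    exact e.symm_apply_apply _
  · have h1 : QuotientGroup.mk' V' ⟨v, VJ_le_PJ hv⟩ = 1 := by
      refine (QuotientGroup.eq_one_iff _).2 ?_
      rw [Subgroup.mem_subgroupOf]
      exact hv
    change e.symm (QuotientGroup.mk' V' ⟨v, VJ_le_PJ hv⟩) = 1
    rw [h1, map_one]

/-- **Inflation** of an irreducible character of `L_J` to `P_J`. -/
theorem exists_infl [Finite W] (J : Set I) {ψ : ↥(LJ cs h T X J) → ℂ} (hψ : IsIrrCharacter _ ψ) :
    ∃ ψ' : ↥(PJ cs h T X J) → ℂ, IsIrrCharacter _ ψ' ∧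
      (∀ (l : Y) (hl : l ∈ LJ cs h T X J), ψ' ⟨l, LJ_le_PJ hl⟩ = ψ ⟨l, hl⟩) ∧
      ∀ (v : Y) (hv : v ∈ VJ cs h X J), ψ' ⟨v, VJ_le_PJ hv⟩ = ψ' 1 := by
  obtain ⟨π, h1, h2⟩ := exists_projL R J
  have hs : Function.Surjective π := fun l => ⟨⟨(l : Y), LJ_le_PJ l.2⟩, h1 l l.2⟩
  refine ⟨ψ ∘ π, Core.isIrr_comp π hs hψ, fun l hl => ?_, fun v hv => ?_⟩
  · rw [Function.comp_apply, h1]
  · rw [Function.comp_apply, h2 v hv, Function.comp_apply, map_one]

omit R in
theorem rep_supp_of_perm {J : Set I} {w : W} (hw : ∀ i ∈ J, ∃ k ∈ J, rep cs h w (sr i) = sr k) {x : I → ℤ}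
    (hx : ∀ k, k ∉ J → x k = 0) {k : I} (hk : k ∉ J) : rep cs h w x k = 0 := by
  rw [eq_sum_sr x, map_sum, Finset.sum_apply]
  refine Finset.sum_eq_zero fun j _ => ?_
  rw [map_smul, Pi.smul_apply]
  by_cases hj : j ∈ J
  · obtain ⟨l, hl, e⟩ := hw j hj
    rw [e, sr_ne (by rintro rfl; exact hk hl), smul_zero]
  · rw [hx j hj, zero_smul]

/-- representatives of elements permuting the simple roots of `J` normalise `M_J` -/
theorem conj_mem_MJ {J : Set I} {w : W} {g : Y} (hg : Rp cs R.nsys w g) (hw : Perm cs h J w) {m : Y}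
    (hm : m ∈ MJ cs h X J) : g⁻¹ * m * g ∈ MJ cs h X J := by
  have hkey : ∀ x ∈ RootsJ cs h J, rep cs h w⁻¹ x ∈ RootsJ cs h J := by
    intro x hx
    refine ⟨hx.1.act _, fun k hk => ?_⟩
    exact rep_supp_of_perm hw.1 hx.2 hk
  exact conj_mem_Sup' R hg (fun x hx => hx.1) hkey hm

theorem conj_mem_MJ' {J : Set I} {w : W} {g : Y} (hg : Rp cs R.nsys w g) (hw : Perm cs h J w) {m : Y}
    (hm : m ∈ MJ cs h X J) : g * m * g⁻¹ ∈ MJ cs h X J := by
  have := conj_mem_MJ R hg.inv (J := J) ⟨by rw [inv_inv]; exact hw.2, hw.1⟩ hm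
  rwa [inv_inv] at this

theorem rp_mem_normalizer_MJ {J : Set I} {w : W} {g : Y} (hg : Rp cs R.nsys w g) (hw : Perm cs h J w) :
    g ∈ Subgroup.normalizer (MJ cs h X J : Set Y) := by
  rw [Subgroup.mem_normalizer_iff]
  intro m
  refine ⟨fun hm => conj_mem_MJ' R hg hw hm, fun hm => ?_⟩
  have := conj_mem_MJ R hg hw hm
  simpa [mul_assoc] using this

/-- **Irreducible characters of a group with a root group datum from the cuspidal characters of `M_J`.** -/
theorem exists_irr_MJ [Finite W] [Fintype Y] (hG : GG cs h T X = ⊤) (J : Set I)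
    {θ : ↥(MJ cs h X J) → ℂ} (hθ : IsIrrCharacter _ θ)
    (hc : ∀ i ∈ J, ∀ [Fintype (rad cs h X J i)], ∑ u : rad cs h X J i, θ ⟨u, rad_le_MJ J i u.2⟩ = 0)
    (hs : ∀ w g (hg : Rp cs R.nsys w g), w ∉ WJ cs J → ∀ hw : Perm cs h J w,
      ∃ (m : Y) (hm : m ∈ MJ cs h X J), θ ⟨g⁻¹ * m * g, conj_mem_MJ R hg hw hm⟩ ≠ θ ⟨m, hm⟩) :
    ∃ χ : Y → ℂ, IsIrrCharacter Y χ ∧ ∃ k : ℕ, 0 < k ∧ χ 1 = (PJ cs h T X J).index * (k * θ 1) := by
  classical
  obtain ⟨ψ, hψ, ⟨k, hk, hk1⟩, c, s, hres, hsφ⟩ := exists_over (MJ_le_LJ (T := T) J) (LJ_le_normalizer_MJ R J) hθ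
  obtain ⟨ψ', hψ', hψL, hψV⟩ := exists_infl R J hψ
  have hres' : ∀ (m : Y) (hm : m ∈ MJ cs h X J), ψ' ⟨m, LJ_le_PJ (MJ_le_LJ J hm)⟩ = c * ∑ φ ∈ s, φ ⟨m, hm⟩ := by
    intro m hm
    rw [hψL]
    exact hres ⟨m, hm⟩
  -- the conjugates are conjugates under the torus
  have hsT : ∀ φ ∈ s, ∃ t, ∃ ht : t ∈ T, φ = θ ∘ conjME (MJ cs h X J) (T_le_normalizer_MJ R J ht) := by
    intro φ hφ
    obtain ⟨g, hg, hgφ⟩ := hsφ φ hφ
    obtain ⟨m, hm, t, ht, rfl⟩ := (mem_LJ_iff_mul' R J).1 hg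
    refine ⟨t, ht, ?_⟩
    funext x
    obtain ⟨hx', e⟩ := hgφ x x.2
    rw [e, Function.comp_apply]
    have h1 := Core.isIrr_isClassFunction hθ (conjME (MJ cs h X J) (T_le_normalizer_MJ R J ht) x) ⟨m, hm⟩
    rw [← h1]
    congr 1
    apply Subtype.ext
    simp only [conjME_coe, Subgroup.coe_mul, InvMemClass.coe_inv]
    group
  refine ⟨indFun (PJ cs h T X J) ψ', ?_, k, hk, ?_⟩
  · refine isIrr_indFun_rgd R hG J hψ' hψV ?_ ?_
    · intro i hi hf
      have h1 : ∀ u : rad cs h X J i, ψ' ⟨u, rad_le_PJ J i u.2⟩ = c * ∑ φ ∈ s, φ ⟨u, rad_le_MJ J i u.2⟩ :=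
        fun u => hres' u (rad_le_MJ J i u.2)
      rw [Finset.sum_congr rfl fun u _ => h1 u, ← Finset.mul_sum, Finset.sum_comm]
      rw [Finset.sum_eq_zero, mul_zero]
      intro φ hφ
      obtain ⟨t, ht, rfl⟩ := hsT φ hφ
      rw [← hc i hi]
      exact Fintype.sum_equiv (conjME (rad cs h X J i) (T_le_normalizer_rad R J i ht)).toEquiv _ _ fun u => rfl
    · intro w g hg hw hp
      have hgn := inv_mem (rp_mem_normalizer_MJ R hg hp)
      refine ⟨MJ cs h X J, le_trans (MJ_le_LJ J) LJ_le_PJ,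
        fun l hl => LJ_le_PJ (MJ_le_LJ J (conj_mem_MJ R hg hp hl)), ?_⟩
      intro hf
      have h1 : ∀ l : MJ cs h X J, ψ' ⟨l, LJ_le_PJ (MJ_le_LJ J l.2)⟩ *
          conj (ψ' ⟨g⁻¹ * l * g, LJ_le_PJ (MJ_le_LJ J (conj_mem_MJ R hg hp l.2))⟩) =
          ∑ φ ∈ s, ∑ φ' ∈ s, (c * conj c) * (φ l * conj ((φ' ∘ conjME (MJ cs h X J) hgn) l)) := by
        intro l
        have e2 : (⟨g⁻¹ * l * g, conj_mem_MJ R hg hp l.2⟩ : MJ cs h X J) = conjME (MJ cs h X J) hgn l := by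
          apply Subtype.ext
          rw [conjME_coe, inv_inv]
        rw [hres' l l.2, hres' _ (conj_mem_MJ R hg hp l.2), e2, map_mul, map_sum]
        simp only [← Finset.mul_sum, Function.comp_apply]
        rw [← Finset.sum_mul]
        ring
      rw [Finset.sum_congr rfl fun l _ => h1 l, Finset.sum_comm]
      refine Finset.sum_eq_zero fun φ hφ => ?_
      rw [Finset.sum_comm]
      refine Finset.sum_eq_zero fun φ' hφ' => ?_
      rw [← Finset.mul_sum]
      obtain ⟨t, ht, rfl⟩ := hsT φ hφ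
      obtain ⟨t', ht', rfl⟩ := hsT φ' hφ'
      have hne : θ ∘ conjME (MJ cs h X J) (T_le_normalizer_MJ R J ht) ≠
          (θ ∘ conjME (MJ cs h X J) (T_le_normalizer_MJ R J ht')) ∘ conjME (MJ cs h X J) hgn := by
        intro he
        have hg' : Rp cs R.nsys w (t * g * t'⁻¹) := by
          have h2 := ((rp_of_mem (cs := cs) (hN := R.nsys) ht).mul hg).mul
            (rp_of_mem (cs := cs) (hN := R.nsys) (inv_mem ht'))
          rwa [one_mul, mul_one] at h2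
        obtain ⟨m, hm, hne⟩ := hs w _ hg' hw hp
        apply hne
        have h3 := congrFun he (conjME (MJ cs h X J) (inv_mem (T_le_normalizer_MJ R J ht)) ⟨m, hm⟩)
        simp only [Function.comp_apply] at h3
        refine Eq.trans ?_ (h3.symm.trans ?_)
        · congr 1
          apply Subtype.ext
          simp only [conjME_coe]
          group
        · congr 1
          apply Subtype.ext
          simp only [conjME_coe]
          group
      have hi1 : IsIrrCharacter _ (θ ∘ conjME (MJ cs h X J) (T_le_normalizer_MJ R J ht)) :=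
        Core.isIrr_comp (conjME _ (T_le_normalizer_MJ R J ht)).toMonoidHom (MulEquiv.surjective _) hθ
      have hi2 : IsIrrCharacter _ (θ ∘ conjME (MJ cs h X J) (T_le_normalizer_MJ R J ht')) :=
        Core.isIrr_comp (conjME _ (T_le_normalizer_MJ R J ht')).toMonoidHom (MulEquiv.surjective _) hθ
      have hi3 : IsIrrCharacter _ ((θ ∘ conjME (MJ cs h X J) (T_le_normalizer_MJ R J ht')) ∘
          conjME (MJ cs h X J) hgn) :=
        Core.isIrr_comp (conjME _ hgn).toMonoidHom (MulEquiv.surjective _) hi2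
      have h4 := Core.classInner_irr_ne hi1 hi3 hne
      rw [Core.classInner_def, mul_eq_zero] at h4
      rcases h4 with h4 | h4
      · exact absurd (inv_eq_zero.1 h4) Core.card_ne_zero_complex
      · rw [mul_eq_zero]
        exact Or.inr h4
  · rw [indFun_one]
    congr 1
    rw [← hk1]
    exact hψL 1 (one_mem _)

end rgd

end Cfsg.Agent.H53.HC
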