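import Cfsg.Agent.H53.HC.Prod

/-!
# Assembly for the exceptional groups (hub H5, helper53)

`exists_irr_one` : `J` = all nodes but `j`, with one component `K` of type `A_2` (types `F_4`, `E_7`, `E_8`).

`exists_irr_two` : two components of type `A_2` (type `E_6`).
-/

set_option autoImplicit false

open scoped ComplexConjugate
open Cfsg

namespace Cfsg.Agent.H53.HC

open Cfsg.Agent.OddOrderCharacters.Clifford Cfsg.Agent.Characters

/-- proportional irreducible characters are equal -/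
theorem eq_of_smul {G : Type*} [Group G] [Finite G] {α β : G → ℂ} (hα : IsIrrCharacter G α) (hβ : IsIrrCharacter G β)
    {c : ℂ} (h : ∀ g, α g = c * β g) : α = β := by
  classical
  have : Fintype G := Fintype.ofFinite G
  by_contra hne
  have h1 := Core.classInner_irr_ne hα hβ hne
  have h2 : α = c • β := funext h
  rw [h2, Core.classInner_smul_left, Core.classInner_irr_self hβ, mul_one] at h1
  rw [h1, zero_smul] at h2
  exact Core.isIrr_ne_zero hα h2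

open CoxeterSystem Cfsg.Agent.ChevalleyStructure.CoxeterGeom Cfsg.Agent.Tits.Roots Cfsg.Agent.Tits.Core
  Cfsg.Agent.Tits.Exchange Cfsg.Agent.Nodes.Reps Cfsg.Agent.Nodes.BNOf Cfsg.Agent.Nodes.StabComb
  Cfsg.Agent.Nodes.Bruhat Cfsg.Agent.Nodes.OppDec Cfsg.Agent.Nodes.LeviDec

variable {I W Y : Type*} [Fintype I] [DecidableEq I] [Group W] [Group Y] {M : CoxeterMatrix I}
  {cs : CoxeterSystem M W} {A : I → I → ℤ} {h : IsCartan M A} {p : ℕ} {T : Subgroup Y} {n : I → Y}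
  {X : (I → ℤ) → Subgroup Y}

/-- `θ` is not invariant under the elements of `Y` which interchange the root groups of `k₀` and `k₁` -/
def NonSwap (cs : CoxeterSystem M W) (h : IsCartan M A) (X : (I → ℤ) → Subgroup Y) (K : Set I) (k₀ k₁ : I)
    (θ : ↥(MJ cs h X K) → ℂ) : Prop :=
  ∀ (g : Y) (hg : g ∈ Subgroup.normalizer (MJ cs h X K : Set Y)), cj g (X (sr k₀)) = X (sr k₁) →
    cj g (X (sr k₁)) = X (sr k₀) → cj g (X (-sr k₀)) = X (-sr k₁) → cj g (X (-sr k₁)) = X (-sr k₀) →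
    θ ∘ conjME (MJ cs h X K) hg ≠ θ

variable (R : RGD cs h p T n X)

include R

omit R in
theorem perm_pair {k₀ k₁ : I} {w : W} (h0 : rep cs h w (sr k₀) = sr k₁) (h1 : rep cs h w (sr k₁) = sr k₀) :
    Perm cs h {k₀, k₁} w := by
  have h0' : rep cs h w⁻¹ (sr k₁) = sr k₀ := by rw [← h0, rep_inv_apply]
  have h1' : rep cs h w⁻¹ (sr k₀) = sr k₁ := by rw [← h1, rep_inv_apply]
  constructor
  · rintro i (rfl | rfl)
    · exact ⟨k₁, by simp, h1'⟩
    · exact ⟨k₀, by simp, h0'⟩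
  · rintro i (rfl | rfl)
    · exact ⟨k₁, by simp, h0⟩
    · exact ⟨k₀, by simp, h1⟩

/-- the product character is not stable under an element reversing the `A_2`-component -/
theorem not_stable_swap [Finite W] {J K K' : Set I} (hJK : J = K ∪ K') (ho : Orth A K K') {k₀ k₁ : I} (hK : K = {k₀, k₁})
    {θ : ↥(MJ cs h X K) → ℂ} (hns : NonSwap cs h X K k₀ k₁ θ) {θ' : ↥(MJ cs h X K') → ℂ} (hθ' : IsIrrCharacter _ θ')
    {ψ : ↥(MJ cs h X J) → ℂ}
    (hψ : ∀ (a : Y) (ha : a ∈ MJ cs h X K) (b : Y) (hb : b ∈ MJ cs h X K'),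
        ∃ hab : a * b ∈ MJ cs h X J, ψ ⟨a * b, hab⟩ = θ ⟨a, ha⟩ * θ' ⟨b, hb⟩)
    {w : W} {g : Y} (hg : Rp cs R.nsys w g) (hw : Perm cs h J w) (h0 : rep cs h w (sr k₀) = sr k₁)
    (h1 : rep cs h w (sr k₁) = sr k₀) :
    ∃ (m : Y) (hm : m ∈ MJ cs h X J), ψ ⟨g⁻¹ * m * g, conj_mem_MJ R hg hw hm⟩ ≠ ψ ⟨m, hm⟩ := by
  by_contra hcon
  push Not at hcon
  have hp : Perm cs h K w := by rw [hK]; exact perm_pair h0 h1
  have hgn := rp_mem_normalizer_MJ R hg hp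
  have hle : MJ cs h X K ≤ MJ cs h X J := by
    rw [hJK, ho.MJ_union]
    exact le_sup_left
  have hval : ∀ (a : Y) (ha : a ∈ MJ cs h X K), ψ ⟨a, hle ha⟩ = θ ⟨a, ha⟩ * θ' 1 := by
    intro a ha
    obtain ⟨hab, e⟩ := hψ a ha 1 (one_mem _)
    simp only [mul_one] at e
    exact e
  refine hns g⁻¹ (inv_mem hgn) ?_ ?_ ?_ ?_ ?_
  · rw [R.conj_rp hg.inv (isRoot_sr cs h k₀), ← h1, rep_inv_apply]
  · rw [R.conj_rp hg.inv (isRoot_sr cs h k₁), ← h0, rep_inv_apply]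
  · rw [R.conj_rp hg.inv (isRoot_sr cs h k₀).neg, map_neg, ← h1, rep_inv_apply]
  · rw [R.conj_rp hg.inv (isRoot_sr cs h k₁).neg, map_neg, ← h0, rep_inv_apply]
  · funext m
    have h2 := hcon m (hle m.2)
    have h3 : g⁻¹ * m * g ∈ MJ cs h X K := conj_mem_MJ R hg hp m.2
    rw [hval _ m.2, hval _ h3] at h2
    have h4 := mul_right_cancel₀ (Core.isIrr_apply_one_ne_zero hθ') h2
    rw [Function.comp_apply]
    refine Eq.trans ?_ h4
    congr 1
    apply Subtype.ext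
    rw [conjME_coe, inv_inv]

/-- **One component of type `A_2`.** -/
theorem exists_irr_one [Finite W] [Fintype Y] (hG : GG cs h T X = ⊤) {J K K' : Set I} {j : I}
    (hJ : ∀ i, i ∈ J ↔ i ≠ j) (hJK : J = K ∪ K') (ho : Orth A K K') {k₀ k₁ : I} (hK : K = {k₀, k₁})
    (hk : IsoPair A J k₀ k₁) (hk1 : A k₁ j = 0) (h3 : ¬ (3 : ℤ) ∣ A k₀ j)
    (hun : ∀ a b, IsoPair A J a b → (a = k₀ ∧ b = k₁) ∨ (a = k₁ ∧ b = k₀))
    {θ : ↥(MJ cs h X K) → ℂ} (hθ : Cusp cs h X K θ) (hns : NonSwap cs h X K k₀ k₁ θ)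
    {θ' : ↥(MJ cs h X K') → ℂ} (hθ' : Cusp cs h X K' θ') :
    ∃ χ : Y → ℂ, IsIrrCharacter Y χ ∧ ∃ k : ℕ, 0 < k ∧ χ 1 = (PJ cs h T X J).index * (k * (θ 1 * θ' 1)) := by
  subst hJK
  obtain ⟨ψ, hψ, hval⟩ := hθ.exists_prod R ho hθ'
  have hval1 : ψ 1 = θ 1 * θ' 1 := by
    obtain ⟨hab, e⟩ := hval 1 (one_mem _) 1 (one_mem _)
    simp only [mul_one] at e
    exact e
  rw [← hval1]
  refine exists_irr_MJ R hG (K ∪ K') hψ.irr hψ.van ?_
  intro w g hg hw hp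
  obtain ⟨h0, h1⟩ := swap_of_iso hJ hk hk1 h3 hun hp hw
  exact not_stable_swap R rfl ho hK hns hθ'.irr hval hg hp h0 h1

/-- an element of `W` fixing the simple roots of `J` (all nodes but `j`) and fixing the coordinate `j` is trivial -/
theorem fix_of_two [Finite W] {J : Set I} {j : I} (hJ : ∀ i, i ∈ J ↔ i ≠ j) {w w' : W} (hw : Perm cs h J w)
    (hwJ : w ∉ WJ cs J) (hw' : Perm cs h J w') (hwJ' : w' ∉ WJ cs J) {g g' : Y} (hg : Rp cs R.nsys w g)
    (hg' : Rp cs R.nsys w' g') : g * g'⁻¹ ∈ T := by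
  have hp : Perm cs h J (w * w'⁻¹) := by
    constructor
    · intro i hi
      obtain ⟨k, hk, e⟩ := hw.1 i hi
      obtain ⟨l, hl, e'⟩ := hw'.2 k hk
      exact ⟨l, hl, by rw [mul_inv_rev, inv_inv, rep_mul_apply, e, e']⟩
    · intro i hi
      obtain ⟨k, hk, e⟩ := hw'.1 i hi
      obtain ⟨l, hl, e'⟩ := hw.2 k hk
      exact ⟨l, hl, by rw [rep_mul_apply, e, e']⟩
  have hmem : w * w'⁻¹ ∈ WJ cs J := by
    by_contra hne
    have h1 := apply_eq_neg hJ hp hne (sr j)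
    have h2 := apply_eq_neg hJ hw hwJ (rep cs h w'⁻¹ (sr j))
    have h3 := apply_eq_neg hJ hw'.inv (fun hh => hwJ' (by simpa using inv_mem hh)) (sr j)
    rw [rep_mul_apply, h2, h3, sr_self] at h1
    omega
  have hone : w * w'⁻¹ = 1 := by
    refine eq_one_of_nonneg (cs := cs) (h := h) fun i => ?_
    by_cases hi : i = j
    · subst hi
      have h1 : rep cs h (w * w'⁻¹) (sr i) i = 1 := by
        rw [Cfsg.Agent.Tits.RootComb.rep_apply_of_mem cs h hmem (sr i) ((not_congr (hJ i)).2 (by simp)), sr_self]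
      rcases ((isRoot_sr cs h i).act (w * w'⁻¹)).pos_or_neg with h4 | h4
      · exact h4
      · have := h4 i
        rw [h1] at this
        exact absurd this (by simp)
    · obtain ⟨k, -, e⟩ := hp.2 i ((hJ i).2 hi)
      rw [e]
      exact sr_nonneg k
  have h1 := hg.mul hg'.inv
  rw [hone] at h1
  exact h1.mem_of_one

/-- **Two components of type `A_2`.** -/
theorem exists_irr_two [Finite W] [Fintype Y] (hG : GG cs h T X = ⊤) {J K L N : Set I} {j : I}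
    (hJ : ∀ i, i ∈ J ↔ i ≠ j) (hJK : J = K ∪ (L ∪ N)) (hoK : Orth A K (L ∪ N)) (hoL : Orth A L N) {k₀ k₁ l₀ l₁ : I}
    (hK : K = {k₀, k₁}) (hL : L = {l₀, l₁}) (hk : IsoPair A J k₀ k₁) (hl : IsoPair A J l₀ l₁)
    (hk1 : A k₁ j = 0) (hl1 : A l₁ j = 0) (h3 : ¬ (3 : ℤ) ∣ A k₀ j) (hkl : A l₀ j = A k₀ j)
    (hun : ∀ a b, IsoPair A J a b → (a = k₀ ∧ b = k₁) ∨ (a = k₁ ∧ b = k₀) ∨ (a = l₀ ∧ b = l₁) ∨ (a = l₁ ∧ b = l₀))
    {θ : ↥(MJ cs h X K) → ℂ} (hθ : Cusp cs h X K θ) (hns : NonSwap cs h X K k₀ k₁ θ)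
    {α α' : ↥(MJ cs h X L) → ℂ} (hα : Cusp cs h X L α) (hα' : Cusp cs h X L α')
    (hne : ∀ t (ht : t ∈ T), α' ≠ α ∘ conjME (MJ cs h X L) (T_le_normalizer_MJ R L ht))
    {β : ↥(MJ cs h X N) → ℂ} (hβ : Cusp cs h X N β) :
    ∃ χ : Y → ℂ, IsIrrCharacter Y χ ∧ ∃ k : ℕ, 0 < k ∧ χ 1 = (PJ cs h T X J).index * (k * θ 1) := by
  classical
  subst hJK
  -- the set of pairs to be avoided
  let Bad : (↥(MJ cs h X L) → ℂ) → Prop := fun γ => ∃ (w : W) (g : Y) (_ : Rp cs R.nsys w g)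
    (_ : Perm cs h (K ∪ (L ∪ N)) w) (_ : w ∉ WJ cs (K ∪ (L ∪ N))) (hm : ∀ m ∈ MJ cs h X L, g⁻¹ * m * g ∈ MJ cs h X K)
    (c : ℂ), ∀ m : MJ cs h X L, γ m = c * θ ⟨g⁻¹ * m * g, hm m m.2⟩
  obtain ⟨γ, hγ, hbad⟩ : ∃ γ : ↥(MJ cs h X L) → ℂ, Cusp cs h X L γ ∧ ¬ Bad γ := by
    by_contra hcon
    push Not at hcon
    obtain ⟨w, g, hg, hw, hwJ, hm, c, e⟩ := hcon α hα
    obtain ⟨w', g', hg', hw', hwJ', hm', c', e'⟩ := hcon α' hα'
    have ht := fix_of_two R hJ hw hwJ hw' hwJ' hg hg'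
    refine hne _ ht ?_
    have hc0 : c ≠ 0 := by
      rintro rfl
      apply Core.isIrr_ne_zero hα.irr
      funext m
      rw [e, zero_mul]; rfl
    refine eq_of_smul (c := c' * c⁻¹) hα'.irr
      (Core.isIrr_comp (conjME _ (T_le_normalizer_MJ R L ht)).toMonoidHom (MulEquiv.surjective _) hα.irr) fun m => ?_
    change α' m = c' * c⁻¹ * α (conjME _ (T_le_normalizer_MJ R L ht) m)
    rw [e', e]
    have e1 : (⟨g⁻¹ * (conjME (MJ cs h X L) (T_le_normalizer_MJ R L ht) m : Y) * g,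
        hm _ (conjME (MJ cs h X L) (T_le_normalizer_MJ R L ht) m).2⟩ : MJ cs h X K) = ⟨g'⁻¹ * m * g', hm' m m.2⟩ := by
      apply Subtype.ext
      simp only [conjME_coe]
      group
    rw [e1]
    field_simp
  obtain ⟨δ, hδ, hδval⟩ := hγ.exists_prod R hoL hβ
  obtain ⟨ψ, hψ, hval⟩ := hθ.exists_prod R hoK hδ
  have hval1 : ψ 1 = θ 1 * δ 1 := by
    obtain ⟨hab, e⟩ := hval 1 (one_mem _) 1 (one_mem _)
    simp only [mul_one] at e
    exact e
  obtain ⟨χ, hχ, k, hk0, hχ1⟩ := exists_irr_MJ R hG (K ∪ (L ∪ N)) hψ.irr hψ.van (by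
    intro w g hg hw hp
    rcases swap_or hJ hk hl hk1 hl1 h3 hkl hun hp hw with ⟨h0, h1⟩ | ⟨h0, h1⟩
    · exact not_stable_swap R rfl hoK hK hns hδ.irr hval hg hp h0 h1
    · by_contra hcon
      push Not at hcon
      apply hbad
      have hm : ∀ m ∈ MJ cs h X L, g⁻¹ * m * g ∈ MJ cs h X K := by
        intro m hm
        refine conj_mem_Sup' R hg (S := RootsJ cs h L) (S' := RootsJ cs h K) (fun x hx => hx.1) ?_ hm
        intro x hx
        refine ⟨hx.1.act _, fun k hkK => ?_⟩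
        rw [eq_sum_sr x, map_sum, Finset.sum_apply]
        refine Finset.sum_eq_zero fun i _ => ?_
        rw [map_smul, Pi.smul_apply]
        by_cases hi : i ∈ L
        · rw [hL] at hi
          have hk' : k ≠ k₀ ∧ k ≠ k₁ := by
            constructor <;> rintro rfl <;> exact hkK (by rw [hK]; simp)
          rcases hi with rfl | rfl
          · rw [← h1, rep_inv_apply, sr_ne hk'.2, smul_zero]
          · rw [← h0, rep_inv_apply, sr_ne hk'.1, smul_zero]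
        · rw [hx.2 i hi, zero_smul]
      have hKle : MJ cs h X K ≤ MJ cs h X (K ∪ (L ∪ N)) := by
        rw [hoK.MJ_union]; exact le_sup_left
      have hLNle : MJ cs h X (L ∪ N) ≤ MJ cs h X (K ∪ (L ∪ N)) := by
        rw [hoK.MJ_union]; exact le_sup_right
      have hLle : MJ cs h X L ≤ MJ cs h X (L ∪ N) := by
        rw [hoL.MJ_union]; exact le_sup_left
      refine ⟨w, g, hg, hp, hw, hm, δ 1 / (θ 1 * β 1), fun m => ?_⟩
      have h2 := hcon m (hLNle (hLle m.2))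
      obtain ⟨hab1, e1⟩ := hval (g⁻¹ * m * g) (hm m m.2) 1 (one_mem _)
      obtain ⟨hab2, e2⟩ := hval 1 (one_mem _) m (hLle m.2)
      obtain ⟨hab3, e3⟩ := hδval m m.2 1 (one_mem _)
      simp only [mul_one] at e1
      simp only [one_mul] at e2
      simp only [mul_one] at e3
      have e4 : θ ⟨g⁻¹ * m * g, hm m m.2⟩ * δ 1 = θ 1 * (γ m * β 1) :=
        (e1.symm.trans h2).trans (e2.trans (congrArg (θ 1 * ·) e3))
      have hθ1 := Core.isIrr_apply_one_ne_zero hθ.irr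
      have hβ1 := Core.isIrr_apply_one_ne_zero hβ.irr
      field_simp
      rw [mul_comm (δ 1), e4]
      ring)
  obtain ⟨d, hd0, hd⟩ := Core.isIrr_apply_one hδ.irr
  refine ⟨χ, hχ, k * d, Nat.mul_pos hk0 hd0, ?_⟩
  rw [hχ1, hval1, hd]
  push_cast
  ring

end Cfsg.Agent.H53.HC
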