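import Cfsg.Agent.H53.HC.WPerm
import Cfsg.Agent.S0188
import Cfsg.Agent.OddOrderCharacters.PF9.Reducible

/-!
# Cuspidal characters of products of orthogonal components (hub H5, helper53)

`Cusp cs h X K θ` : `θ` is an irreducible character of `M_K`, trivial on the centre, cuspidal.

`Cusp.exists_prod` : `K`, `K'` orthogonal: the product of cuspidal characters of `M_K` and `M_K'` is one of `M_(K ∪ K')`.
-/

set_option autoImplicit false

open scoped ComplexConjugate
open Cfsg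

namespace Cfsg.Agent.H53.HC

open Cfsg.Agent.OddOrderCharacters.Clifford Cfsg.Agent.Characters

section grp

variable {G : Type*} [Group G]

/-- **Product of irreducible characters of commuting subgroups.** -/
theorem exists_prod_char [Finite G] {H K : Subgroup G} (hc : ∀ a ∈ H, ∀ b ∈ K, a * b = b * a)
    {α : H → ℂ} {β : K → ℂ} (hα : IsIrrCharacter H α) (hβ : IsIrrCharacter K β)
    (hz : ∀ z : G, ∀ h1 : z ∈ H, ∀ h2 : z ∈ K, α ⟨z, h1⟩ = α 1 ∧ β ⟨z⁻¹, inv_mem h2⟩ = β 1) :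
    ∃ ψ : ↥(H ⊔ K) → ℂ, IsIrrCharacter _ ψ ∧
      ∀ (a : G) (ha : a ∈ H) (b : G) (hb : b ∈ K),
        ψ ⟨a * b, mul_mem (le_sup_left (b := K) ha) (le_sup_right (a := H) hb)⟩ = α ⟨a, ha⟩ * β ⟨b, hb⟩ := by
  classical
  have : Fintype G := Fintype.ofFinite G
  let f : H × K →* ↥(H ⊔ K) :=
    { toFun := fun x => ⟨x.1 * x.2, mul_mem (le_sup_left (b := K) x.1.2) (le_sup_right (a := H) x.2.2)⟩
      map_one' := by
        apply Subtype.ext
        simp
      map_mul' := by
        rintro ⟨a, b⟩ ⟨c, d⟩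
        apply Subtype.ext
        change (a * c : G) * (b * d) = (a * b) * (c * d)
        have := hc c c.2 b b.2
        calc (a * c : G) * (b * d) = a * (c * b) * d := by group
          _ = a * (b * c) * d := by rw [this]
          _ = (a * b) * (c * d) := by group }
  have hf : Function.Surjective f := by
    rintro ⟨x, hx⟩
    have hle : H ≤ Subgroup.normalizer (K : Set G) := by
      intro a ha
      rw [Subgroup.mem_normalizer_iff]
      intro b
      constructor
      · intro hb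
        rw [hc a ha b hb, mul_inv_cancel_right]
        exact hb
      · intro hb
        have h1 := hc a⁻¹ (inv_mem ha) _ hb
        have h2 : b = a * b * a⁻¹ := by
          have h3 : a⁻¹ * (a * b * a⁻¹) = (a * b * a⁻¹) * a⁻¹ := h1
          have h4 : b * a⁻¹ = (a * b * a⁻¹) * a⁻¹ := by rw [← h3]; group
          exact mul_right_cancel h4
        rw [h2]
        exact hb
    have h1 : x ∈ ((H ⊔ K : Subgroup G) : Set G) := hx
    rw [Subgroup.coe_mul_of_left_le_normalizer_right _ _ hle] at h1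
    obtain ⟨a, ha, b, hb, rfl⟩ := h1
    exact ⟨(⟨a, ha⟩, ⟨b, hb⟩), rfl⟩
  have hirr : IsIrrCharacter (H × K) (fun x => α x.1 * β x.2) := Cfsg.Agent.S0188.isIrr_outer hα hβ
  obtain ⟨ψ, hψ, hψf⟩ := Cfsg.Agent.OddOrderCharacters.PF9.Reducible.exists_of_surjective f hf hirr (by
    rintro ⟨a, b⟩ hab
    have h1 : (a : G) * b = 1 := congrArg Subtype.val hab
    have h2 : (b : G) = (a : G)⁻¹ := (inv_eq_of_mul_eq_one_right h1).symm
    have haK : (a : G) ∈ K := by
      rw [← inv_mem_iff, ← h2]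
      exact b.2
    obtain ⟨h3, h4⟩ := hz a a.2 haK
    have e1 : b = ⟨(a : G)⁻¹, inv_mem haK⟩ := Subtype.ext h2
    change α a * β b = α 1 * β 1
    rw [e1, h4]
    exact congrArg (· * β 1) h3)
  exact ⟨ψ, hψ, fun a ha b hb => hψf (⟨a, ha⟩, ⟨b, hb⟩)⟩

end grp

section rgd

open CoxeterSystem Cfsg.Agent.ChevalleyStructure.CoxeterGeom Cfsg.Agent.Tits.Roots Cfsg.Agent.Tits.Core
  Cfsg.Agent.Tits.Exchange Cfsg.Agent.Nodes.Reps Cfsg.Agent.Nodes.BNOf Cfsg.Agent.Nodes.StabComb
  Cfsg.Agent.Nodes.Bruhat Cfsg.Agent.Nodes.OppDec Cfsg.Agent.Nodes.LeviDec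
open scoped commutatorElement

variable {I W Y : Type*} [Fintype I] [DecidableEq I] [Group W] [Group Y] {M : CoxeterMatrix I}
  {cs : CoxeterSystem M W} {A : I → I → ℤ} {h : IsCartan M A} {p : ℕ} {T : Subgroup Y} {n : I → Y}
  {X : (I → ℤ) → Subgroup Y}

/-- a cuspidal irreducible character of `M_K`, trivial on the centre -/
structure Cusp (cs : CoxeterSystem M W) (h : IsCartan M A) (X : (I → ℤ) → Subgroup Y) (K : Set I)
    (θ : ↥(MJ cs h X K) → ℂ) : Prop where
  irr : IsIrrCharacter _ θ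
  cen : ∀ z ∈ Subgroup.center ↥(MJ cs h X K), ∀ m, θ (z * m) = θ m
  van : ∀ i ∈ K, ∀ [Fintype (rad cs h X K i)], ∑ u : rad cs h X K i, θ ⟨u, rad_le_MJ K i u.2⟩ = 0

/-- the two sets of nodes are orthogonal -/
def Orth (A : I → I → ℤ) (K K' : Set I) : Prop := ∀ i ∈ K, ∀ j ∈ K', i ≠ j ∧ A i j = 0 ∧ A j i = 0

omit [Fintype I] [DecidableEq I] in
theorem Orth.symm {K K' : Set I} (ho : Orth A K K') : Orth A K' K :=
  fun i hi j hj => ⟨(ho j hj i hi).1.symm, (ho j hj i hi).2.2, (ho j hj i hi).2.1⟩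

theorem Orth.fix {K K' : Set I} (ho : Orth A K K') {i : I} (hi : i ∈ K) {x : I → ℤ} (hx : x ∈ RootsJ cs h K') :
    rep cs h (cs.simple i) x = x := by
  rw [rep_simple_eq]
  have h1 : pairing A i x = 0 := by
    unfold pairing
    refine Finset.sum_eq_zero fun k _ => ?_
    by_cases hk : k ∈ K'
    · rw [(ho i hi k hk).2.1, zero_mul]
    · rw [hx.2 k hk, mul_zero]
  rw [h1, zero_smul, sub_zero]

/-- **The roots of a union of orthogonal sets of nodes.** -/
theorem Orth.roots [Finite W] {K K' : Set I} (ho : Orth A K K') {x : I → ℤ} (hx : x ∈ RootsJ cs h (K ∪ K')) :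
    x ∈ RootsJ cs h K ∨ x ∈ RootsJ cs h K' := by
  obtain ⟨w, hw, j, hj, rfl⟩ := exists_of_mem_RootsJ hx
  have h0 : sr j ∈ RootsJ cs h K ∨ sr j ∈ RootsJ cs h K' := by
    rcases hj with hj | hj
    · exact Or.inl (PosJ_subset K (sr_mem_PosJ hj))
    · exact Or.inr (PosJ_subset K' (sr_mem_PosJ hj))
  have key : ∀ v ∈ WJ cs (K ∪ K'), ∀ y, (y ∈ RootsJ cs h K ∨ y ∈ RootsJ cs h K') →
      (rep cs h v y ∈ RootsJ cs h K ∨ rep cs h v y ∈ RootsJ cs h K') := by
    intro v hv
    unfold WJ at hv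
    induction hv using Subgroup.closure_induction with
    | mem v hv =>
      obtain ⟨i, hi, rfl⟩ := hv
      intro y hy
      rcases hi with hi | hi <;> rcases hy with hy | hy
      · exact Or.inl (RootsJ.act (simple_mem_WJ cs hi) hy)
      · right; rw [ho.fix hi hy]; exact hy
      · left; rw [ho.symm.fix hi hy]; exact hy
      · exact Or.inr (RootsJ.act (simple_mem_WJ cs hi) hy)
    | one => intro y hy; rw [map_one, Module.End.one_apply]; exact hy
    | mul v w _ _ ih1 ih2 => intro y hy; rw [rep_mul_apply]; exact ih1 _ (ih2 _ hy)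
    | inv v _ ih =>
      have hp : ∀ m : ℕ, ∀ y, (y ∈ RootsJ cs h K ∨ y ∈ RootsJ cs h K') →
          (rep cs h (v ^ m) y ∈ RootsJ cs h K ∨ rep cs h (v ^ m) y ∈ RootsJ cs h K') := by
        intro m
        induction m with
        | zero => intro y hy; rw [pow_zero, map_one, Module.End.one_apply]; exact hy
        | succ m ihm => intro y hy; rw [pow_succ, rep_mul_apply]; exact ihm _ (ih _ hy)
      have h3 : v ^ (orderOf v - 1) = v⁻¹ := by
        have h4 : 0 < orderOf v := orderOf_pos _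
        have h5 : v ^ (orderOf v - 1) * v = 1 := by
          rw [← pow_succ, Nat.sub_add_cancel h4, pow_orderOf_eq_one]
        exact eq_inv_of_mul_eq_one_left h5
      rw [← h3]
      exact hp _
  exact key w hw _ h0

theorem Orth.union_roots [Finite W] {K K' : Set I} (ho : Orth A K K') :
    RootsJ cs h (K ∪ K') = RootsJ cs h K ∪ RootsJ cs h K' := by
  ext x
  constructor
  · exact fun hx => ho.roots hx
  · rintro (hx | hx)
    · exact ⟨hx.1, fun k hk => hx.2 k fun hk' => hk (Or.inl hk')⟩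
    · exact ⟨hx.1, fun k hk => hx.2 k fun hk' => hk (Or.inr hk')⟩

theorem Orth.MJ_union [Finite W] {K K' : Set I} (ho : Orth A K K') :
    MJ cs h X (K ∪ K') = MJ cs h X K ⊔ MJ cs h X K' := by
  unfold MJ
  apply le_antisymm
  · refine RGD.Sup_le fun x hx => ?_
    rcases ho.roots hx with hx | hx
    · exact le_trans (RGD.le_Sup hx) le_sup_left
    · exact le_trans (RGD.le_Sup hx) le_sup_right
  · refine sup_le (RGD.Sup_mono fun x hx => ?_) (RGD.Sup_mono fun x hx => ?_)
    · rw [ho.union_roots]; exact Or.inl hx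
    · rw [ho.union_roots]; exact Or.inr hx

/-- a root of `K` is not zero on `K` -/
theorem exists_ne_zero {K : Set I} {x : I → ℤ} (hx : x ∈ RootsJ cs h K) : ∃ i ∈ K, x i ≠ 0 := by
  by_contra hcon
  push Not at hcon
  refine hx.1.ne_zero (funext fun i => ?_)
  by_cases hi : i ∈ K
  · exact hcon i hi
  · exact hx.2 i hi

/-- no root lies between a root of `K` and a root of `K'` -/
theorem Orth.not_btwn [Finite W] {K K' : Set I} (ho : Orth A K K') {x y z : I → ℤ} (hx : x ∈ RootsJ cs h K)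
    (hy : y ∈ RootsJ cs h K') (hz : Btwn cs h x y z) : False := by
  obtain ⟨hzr, m, a, b, hm, ha, hb, e⟩ := hz
  have hd : ∀ i, i ∈ K → i ∉ K' := fun i hi hi' => (ho i hi i hi').1 rfl
  have hzJ : z ∈ RootsJ cs h (K ∪ K') := by
    refine ⟨hzr, fun k hk => ?_⟩
    have h1 := congrFun e k
    simp only [Pi.add_apply, Pi.smul_apply, smul_eq_mul] at h1
    rw [hx.2 k fun hk' => hk (Or.inl hk'), hy.2 k fun hk' => hk (Or.inr hk'), mul_zero, mul_zero, add_zero] at h1
    rcases mul_eq_zero.1 h1 with h2 | h2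
    · omega
    · exact h2
  obtain ⟨i, hi, hxi⟩ := exists_ne_zero hx
  obtain ⟨j, hj, hyj⟩ := exists_ne_zero hy
  rcases ho.roots hzJ with h1 | h1
  · have h2 := congrFun e j
    simp only [Pi.add_apply, Pi.smul_apply, smul_eq_mul] at h2
    rw [h1.2 j fun hj' => hd j hj' hj, hx.2 j fun hj' => hd j hj' hj, mul_zero, mul_zero, zero_add] at h2
    rcases mul_eq_zero.1 h2.symm with h3 | h3
    · omega
    · exact hyj h3
  · have h2 := congrFun e i
    simp only [Pi.add_apply, Pi.smul_apply, smul_eq_mul] at h2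
    rw [h1.2 i (hd i hi), hy.2 i (hd i hi), mul_zero, mul_zero, add_zero] at h2
    rcases mul_eq_zero.1 h2.symm with h3 | h3
    · omega
    · exact hxi h3

theorem Orth.ne {K K' : Set I} (ho : Orth A K K') {x y : I → ℤ} (hx : x ∈ RootsJ cs h K) (hy : y ∈ RootsJ cs h K') :
    x ≠ y := by
  rintro rfl
  obtain ⟨i, hi, hxi⟩ := exists_ne_zero hx
  exact hxi (hy.2 i fun hi' => (ho i hi i hi').1 rfl)

theorem Orth.rad_eq [Finite W] {K K' : Set I} (ho : Orth A K K') {i : I} (hi : i ∈ K) :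
    rad cs h X (K ∪ K') i = rad cs h X K i := by
  unfold rad
  congr 1
  ext x
  constructor
  · rintro ⟨⟨h1, h2, h3⟩, h4⟩
    refine ⟨⟨h1, h2, ?_⟩, h4⟩
    rcases ho.roots (x := x) (cs := cs) (h := h) ⟨h1, h3⟩ with h5 | h5
    · exact h5.2
    · rw [h5.2 i fun hi' => (ho i hi i hi').1 rfl] at h4
      exact absurd h4 (lt_irrefl _)
  · rintro ⟨⟨h1, h2, h3⟩, h4⟩
    exact ⟨⟨h1, h2, fun k hk => h3 k fun hk' => hk (Or.inl hk')⟩, h4⟩

variable (R : RGD cs h p T n X)

include R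

/-- orthogonal components commute -/
theorem Orth.comm [Finite W] {K K' : Set I} (ho : Orth A K K') :
    ∀ a ∈ MJ cs h X K, ∀ b ∈ MJ cs h X K', a * b = b * a := by
  have h0 : ∀ x ∈ RootsJ cs h K, ∀ y ∈ RootsJ cs h K', ∀ a ∈ X x, ∀ b ∈ X y, a * b = b * a := by
    intro x hx y hy a ha b hb
    have h1 := R.comm x y hx.1 hy.1 (ho.ne hx hy) (ho.ne hx (RootsJ.neg hy)) a ha b hb
    have h2 : btw cs h X x y = ⊥ := by
      unfold Cfsg.Agent.Nodes.Reps.btw
      rw [iSup_eq_bot]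
      rintro ⟨z, hz⟩
      exact (ho.not_btwn hx hy hz).elim
    rw [h2, Subgroup.mem_bot] at h1
    exact commutatorElement_eq_one_iff_mul_comm.1 h1
  have h1 : MJ cs h X K ≤ Subgroup.centralizer (MJ cs h X K' : Set Y) := by
    refine RGD.Sup_le fun x hx => ?_
    rw [Subgroup.le_centralizer_iff]
    refine RGD.Sup_le fun y hy => ?_
    intro b hb
    rw [Subgroup.mem_centralizer_iff]
    intro a ha
    exact h0 x hx y hy a ha b hb
  intro a ha b hb
  exact ((Subgroup.mem_centralizer_iff.1 (h1 ha)) b hb).symm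

/-- **The product of cuspidal characters.** -/
theorem Cusp.exists_prod [Finite W] [Finite Y] {K K' : Set I} (ho : Orth A K K') {θ : ↥(MJ cs h X K) → ℂ}
    {θ' : ↥(MJ cs h X K') → ℂ} (hθ : Cusp cs h X K θ) (hθ' : Cusp cs h X K' θ') :
    ∃ ψ : ↥(MJ cs h X (K ∪ K')) → ℂ, Cusp cs h X (K ∪ K') ψ ∧
      ∀ (a : Y) (ha : a ∈ MJ cs h X K) (b : Y) (hb : b ∈ MJ cs h X K'),
        ∃ hab : a * b ∈ MJ cs h X (K ∪ K'), ψ ⟨a * b, hab⟩ = θ ⟨a, ha⟩ * θ' ⟨b, hb⟩ := by
  classical
  have hcomm := ho.comm R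
  obtain ⟨ψ, hψ, hval⟩ := exists_prod_char hcomm hθ.irr hθ'.irr (by
    intro z h1 h2
    have hc1 : (⟨z, h1⟩ : ↥(MJ cs h X K)) ∈ Subgroup.center ↥(MJ cs h X K) := by
      rw [Subgroup.mem_center_iff]
      intro g
      exact Subtype.ext (hcomm g g.2 z h2)
    have hc2 : (⟨z⁻¹, inv_mem h2⟩ : ↥(MJ cs h X K')) ∈ Subgroup.center ↥(MJ cs h X K') := by
      rw [Subgroup.mem_center_iff]
      intro g
      exact Subtype.ext (hcomm z⁻¹ (inv_mem h1) g g.2).symm
    have e1 := hθ.cen _ hc1 1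
    have e2 := hθ'.cen _ hc2 1
    rw [mul_one] at e1 e2
    exact ⟨e1, e2⟩)
  have hMJ := ho.MJ_union (cs := cs) (h := h) (X := X)
  let e := MulEquiv.subgroupCongr hMJ
  have hle1 : MJ cs h X K ≤ MJ cs h X (K ∪ K') := by rw [hMJ]; exact le_sup_left
  have hle2 : MJ cs h X K' ≤ MJ cs h X (K ∪ K') := by rw [hMJ]; exact le_sup_right
  have hval' : ∀ (a : Y) (ha : a ∈ MJ cs h X K) (b : Y) (hb : b ∈ MJ cs h X K')
      (hab : a * b ∈ MJ cs h X (K ∪ K')), (ψ ∘ e) ⟨a * b, hab⟩ = θ ⟨a, ha⟩ * θ' ⟨b, hb⟩ :=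
    fun a ha b hb _ => hval a ha b hb
  have hdec : ∀ x ∈ MJ cs h X (K ∪ K'), ∃ a ∈ MJ cs h X K, ∃ b ∈ MJ cs h X K', x = a * b := by
    intro x hx
    rw [hMJ] at hx
    have hle : MJ cs h X K ≤ Subgroup.normalizer (MJ cs h X K' : Set Y) := by
      intro a ha
      rw [Subgroup.mem_normalizer_iff]
      intro b
      constructor
      · intro hb
        rw [hcomm a ha b hb, mul_inv_cancel_right]
        exact hb
      · intro hb
        have h1 := hcomm a⁻¹ (inv_mem ha) _ hb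
        have h3 : b * a⁻¹ = (a * b * a⁻¹) * a⁻¹ := by rw [← h1]; group
        have h4 : b = a * b * a⁻¹ := mul_right_cancel h3
        rw [h4]
        exact hb
    have h1 : x ∈ ((MJ cs h X K ⊔ MJ cs h X K' : Subgroup Y) : Set Y) := hx
    rw [Subgroup.coe_mul_of_left_le_normalizer_right _ _ hle] at h1
    obtain ⟨a, ha, b, hb, rfl⟩ := h1
    exact ⟨a, ha, b, hb, rfl⟩
  refine ⟨ψ ∘ e, ⟨Core.isIrr_comp e.toMonoidHom e.surjective hψ, ?_, ?_⟩,
    fun a ha b hb => ⟨mul_mem (hle1 ha) (hle2 hb), hval' a ha b hb _⟩⟩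
  · rintro ⟨z, hz⟩ hzc ⟨m, hm⟩
    rw [Subgroup.mem_center_iff] at hzc
    obtain ⟨a, ha, b, hb, rfl⟩ := hdec z hz
    obtain ⟨c, hc, d, hd, rfl⟩ := hdec m hm
    have hz1 : (⟨a, ha⟩ : ↥(MJ cs h X K)) ∈ Subgroup.center ↥(MJ cs h X K) := by
      rw [Subgroup.mem_center_iff]
      rintro ⟨g, hg⟩
      apply Subtype.ext
      have h1 : g * (a * b) = (a * b) * g := congrArg Subtype.val (hzc ⟨g, hle1 hg⟩)
      have h2 := hcomm g hg b hb
      change g * a = a * g
      have h3 : (a * b) * g = a * g * b := by rw [mul_assoc, ← h2, ← mul_assoc]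
      rw [h3, ← mul_assoc] at h1
      exact mul_right_cancel h1
    have hz2 : (⟨b, hb⟩ : ↥(MJ cs h X K')) ∈ Subgroup.center ↥(MJ cs h X K') := by
      rw [Subgroup.mem_center_iff]
      rintro ⟨g, hg⟩
      apply Subtype.ext
      have h1 : g * (a * b) = (a * b) * g := congrArg Subtype.val (hzc ⟨g, hle2 hg⟩)
      have h2 := hcomm a ha g hg
      change g * b = b * g
      have h3 : g * (a * b) = a * (g * b) := by rw [← mul_assoc, ← h2, mul_assoc]
      rw [h3, mul_assoc] at h1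
      exact mul_left_cancel h1
    have e1 : (⟨a * b, hz⟩ : ↥(MJ cs h X (K ∪ K'))) * ⟨c * d, hm⟩ =
        ⟨(a * c) * (b * d), mul_mem (hle1 (mul_mem ha hc)) (hle2 (mul_mem hb hd))⟩ := by
      apply Subtype.ext
      change (a * b) * (c * d) = (a * c) * (b * d)
      have h2 := hcomm c hc b hb
      calc (a * b) * (c * d) = a * (b * c) * d := by group
        _ = a * (c * b) * d := by rw [h2]
        _ = (a * c) * (b * d) := by group
    rw [e1, hval' (a * c) (mul_mem ha hc) (b * d) (mul_mem hb hd), hval' c hc d hd]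
    have e2 := hθ.cen _ hz1 ⟨c, hc⟩
    have e3 := hθ'.cen _ hz2 ⟨d, hd⟩
    rw [← e2, ← e3]
    rfl
  · intro i hi hf
    rcases hi with hi | hi
    · have hr : rad cs h X (K ∪ K') i = rad cs h X K i := ho.rad_eq hi
      have : Fintype (rad cs h X K i) := Fintype.ofFinite _
      have h1 : ∀ u : rad cs h X (K ∪ K') i, (ψ ∘ e) ⟨u, rad_le_MJ (K ∪ K') i u.2⟩ =
          θ ⟨u, rad_le_MJ K i (by rw [← hr]; exact u.2)⟩ * θ' 1 := by
        rintro ⟨u, hu⟩
        have h2 := hval' u (rad_le_MJ K i (by rw [← hr]; exact hu)) 1 (one_mem _)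
          (by rw [mul_one]; exact rad_le_MJ (K ∪ K') i hu)
        simp only [mul_one] at h2
        exact h2
      rw [Finset.sum_congr rfl fun u _ => h1 u, ← Finset.sum_mul]
      have h3 : ∑ u : rad cs h X (K ∪ K') i, θ ⟨u, rad_le_MJ K i (by rw [← hr]; exact u.2)⟩ =
          ∑ u : rad cs h X K i, θ ⟨u, rad_le_MJ K i u.2⟩ :=
        Fintype.sum_equiv (MulEquiv.subgroupCongr hr).toEquiv _ _ fun u => rfl
      rw [h3, hθ.van i hi, zero_mul]
    · have hr : rad cs h X (K ∪ K') i = rad cs h X K' i := by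
        rw [Set.union_comm]
        exact ho.symm.rad_eq hi
      have : Fintype (rad cs h X K' i) := Fintype.ofFinite _
      have h1 : ∀ u : rad cs h X (K ∪ K') i, (ψ ∘ e) ⟨u, rad_le_MJ (K ∪ K') i u.2⟩ =
          θ 1 * θ' ⟨u, rad_le_MJ K' i (by rw [← hr]; exact u.2)⟩ := by
        rintro ⟨u, hu⟩
        have h2 := hval' 1 (one_mem _) u (rad_le_MJ K' i (by rw [← hr]; exact hu))
          (by rw [one_mul]; exact rad_le_MJ (K ∪ K') i hu)
        simp only [one_mul] at h2
        exact h2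
      rw [Finset.sum_congr rfl fun u _ => h1 u, ← Finset.mul_sum]
      have h3 : ∑ u : rad cs h X (K ∪ K') i, θ' ⟨u, rad_le_MJ K' i (by rw [← hr]; exact u.2)⟩ =
          ∑ u : rad cs h X K' i, θ' ⟨u, rad_le_MJ K' i u.2⟩ :=
        Fintype.sum_equiv (MulEquiv.subgroupCongr hr).toEquiv _ _ fun u => rfl
      rw [h3, hθ'.van i hi, mul_zero]

end rgd

end Cfsg.Agent.H53.HC
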