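import Cfsg.Agent.H53.HC.ExcIn
import Cfsg.Agent.H622.Levi.NonSwap
import Cfsg.Agent.H53.HC.BigFacts
import Cfsg.Agent.FixBN.SplitRGD
import Cfsg.Agent.H163.Steinberg
import Cfsg.Agent.SmallSimple.EvenOrder

/-!
# Itô-Michler for `F₄`, `E₆`, `E₇`, `E₈`, `²E₆` (hub H5, helper53)

* `row_F4`, `row_E6`, `row_E7`, `row_E8`, `row_TwE6` : `Row S` (`Row.bigF`, `Row.im`, `Row.four`, `Row.ind`);
* `im_F4`, `im_E6`, `im_E7`, `im_E8`, `im_TwE6` : the rows of the Itô-Michler theorem.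
-/

set_option autoImplicit false
set_option linter.unusedSectionVars false

namespace Cfsg.Agent.H53.HC.ExcIM

open Cfsg.Agent.H53.HC Cfsg.Agent.H53.HC.ExcRows Cfsg.Agent.H35.ExcIdx Cfsg.Lie Cfsg.Agent.Nodes.RGDChev
open CoxeterSystem Cfsg.Agent.ChevalleyStructure.CoxeterGeom Cfsg.Agent.Tits.Roots Cfsg.Agent.Tits.Core
  Cfsg.Agent.Tits.Exchange Cfsg.Agent.Nodes.Reps Cfsg.Agent.Nodes.BNOf Cfsg.Agent.Nodes.StabComb

section gen

variable {r q l : ℕ} {M : CoxeterMatrix (Fin l)} {A : Fin l → Fin l → ℤ} {h : IsCartan M A} {f : Fin l → ℕ}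
  {S : Type*} [Group S] {T : Subgroup S} {n : Fin l → S} {X : (Fin l → ℤ) → Subgroup S}

theorem in_A2 [Finite S] {J : Set (Fin l)} (D : ExcData r q h f J T n X) {k₀ k₁ : Fin l} (hk : M k₀ k₁ = 3)
    (hq : f k₀ = q) : InA2 h X q k₀ k₁ := by
  have := D.fin
  exact H622.Levi.inA2 D.rgd hk ((D.size k₀).trans hq)

theorem in_pair [Finite S] {J : Set (Fin l)} (D : ExcData r q h f J T n X) {l₀ l₁ : Fin l} (hl : M l₀ l₁ = 3) :
    ∃ α α' : ↥(MJ M.toCoxeterSystem h X {l₀, l₁}) → ℂ, Cusp M.toCoxeterSystem h X {l₀, l₁} α ∧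
      Cusp M.toCoxeterSystem h X {l₀, l₁} α' ∧
      ∀ t (ht : t ∈ T), α' ≠ α ∘ conjME (MJ M.toCoxeterSystem h X {l₀, l₁}) (T_le_normalizer_MJ D.rgd {l₀, l₁} ht) := by
  have := D.fin
  exact H622.Levi.pair D.rgd hl

/-- powers of the characteristic divide the degree of the Steinberg character -/
theorem im_pow [Finite S] [IsSimpleGroup S] (hr : r.Prime) (hl : 0 < l) {J : Set (Fin l)}
    (D : ExcData r q h f J T n X) {k : ℕ} (hd : r ^ k ∣ Nat.card S) : H33.IM (r ^ k) S := by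
  have : Fact r.Prime := ⟨hr⟩
  have := D.fin
  have : Nonempty (Fin l) := ⟨⟨0, hl⟩⟩
  have hsplit : FixBN.HasSplit r S := FixBN.SplitRGD.hasSplit_of_rgd_top hr D.rgd (by
    have h1 := D.g1
    unfold Nodes.RGDLib.G1 RGD.Sup at h1
    exact h1)
  obtain ⟨χ, hχ, h1⟩ := H163.Steinberg.exists_irr_of_hasSplit hsplit
  have Q : Sylow r S := default
  refine ⟨⟨χ, hχ⟩, ?_⟩
  have k1 := Cfsg.Agent.Blocks.Basic.irr_one_eq_charDegree hχ
  rw [(h1 Q).1] at k1
  have k2 : Nat.card Q = charDegree χ := by exact_mod_cast k1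
  show r ^ k ∣ charDegree χ
  rw [← k2]
  exact Q.pow_dvd_card_of_pow_dvd_card hd

/-- the Steinberg character and a big character give the theorem of Itô-Michler -/
theorem im_of [Finite S] [IsSimpleGroup S] (hr : r.Prime) (hl : 0 < l) {J : Set (Fin l)}
    (D : ExcData r q h f J T n X) (hB : Big r S) {p : ℕ} (hp : p.Prime) (hd : p ∣ Nat.card S) : H33.IM p S := by
  by_cases hpr : p = r
  · subst hpr
    have h1 := im_pow hr hl D (k := 1) (by rwa [pow_one])
    rwa [pow_one] at h1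
  · exact hB.im hp hd hpr

/-- the order of the root groups divides the order of the group -/
theorem dvd_card [Finite S] {J : Set (Fin l)} (D : ExcData r q h f J T n X) (i : Fin l) (hf : f i = q)
    {e : ℕ} (he : e ≠ 0) (hq : q = r ^ e) : r ∣ Nat.card S := by
  have h1 : q ∣ Nat.card S := by
    rw [← hf, ← D.size i]
    exact Subgroup.card_subgroup_dvd_card _
  rw [hq] at h1
  exact (dvd_pow_self r he).trans h1

theorem im_four_of [Finite S] [IsSimpleGroup S] (hnc : ¬ IsMulCommutative S) (hr : r.Prime) {J : Set (Fin l)}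
    (D : ExcData r q h f J T n X) (i : Fin l) (hf : f i = q) {e : ℕ} (he : e ≠ 0) (hq : q = r ^ e)
    (hB : BigF r q S) : H33.IM 4 S := by
  rcases hr.eq_two_or_odd' with rfl | hodd
  · have h1 := dvd_card D i hf he hq
    have h2 := SmallSimple.EvenOrder.four_dvd_card hnc h1
    exact im_pow hr i.pos D (k := 2) h2
  · refine hB.four ?_
    rw [hq]
    exact hodd.pow

end gen

universe u

/-- the data of the rows: the characteristic `r` with a big character, and all the primes -/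
structure Row (S : Type u) [Group S] : Prop where
  bigF : ∃ r f q, r.Prime ∧ f ≠ 0 ∧ q = r ^ f ∧ BigF r q S
  im : ∀ p : ℕ, p.Prime → p ∣ Nat.card S → H33.IM p S
  four : ¬ IsMulCommutative S → H33.IM 4 S

theorem Row.congr {S : Type*} [Group S] {S' : Type*} [Group S'] (e : S ≃* S') (h : Row S') : Row S := by
  obtain ⟨⟨r, f, q, hr, hf, hq, hB⟩, him, h4⟩ := h
  refine ⟨⟨r, f, q, hr, hf, hq, hB.of_equiv e⟩, fun p hp hd => (him p hp ?_).of_equiv e, fun hnc => (h4 ?_).of_equiv e⟩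
  · rwa [← Nat.card_congr e.toEquiv]
  · intro hc
    apply hnc
    refine ⟨⟨fun a b => e.injective ?_⟩⟩
    rw [map_mul, map_mul]
    exact hc.is_comm.comm _ _

theorem Row.ind {S : Type*} [Group S] [Finite S] (h : Row S) {p q s : ℕ} (hp : p ∈ degreePrimes S)
    (hq : q ∈ degreePrimes S) (hs : s ∈ degreePrimes S) (hpq : p ≠ q) (hqs : q ≠ s) (hps : p ≠ s) :
    H671.H5.Adj p q S ∨ H671.H5.Adj q s S ∨ H671.H5.Adj p s S := by
  obtain ⟨r, f, q, -, -, -, hB⟩ := h.bigF
  exact hB.big.ind hp hq hs hpq hqs hps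

theorem simple_congr {S : Type*} [Group S] {S' : Type*} [Group S'] (e : S ≃* S') (hs : IsSimpleGroup S) :
    IsSimpleGroup S' := e.isSimpleGroup_congr.1 hs

theorem exists_prime_pow (F : Type) [Field F] [Fintype F] :
    ∃ (r f : ℕ), r.Prime ∧ f ≠ 0 ∧ Fintype.card F = r ^ f ∧ CharP F r := by
  obtain ⟨r, hr⟩ := CharP.exists F
  obtain ⟨f, hp, hf⟩ := FiniteField.card F r
  exact ⟨r, f, hp, f.ne_zero, hf, hr⟩

theorem row_E8 {S : Type*} [Group S] (h : Lie.IsoE8 S) (hs : IsSimpleGroup S) : Row S := by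
  obtain ⟨F, _, _, ⟨e⟩⟩ := h
  obtain ⟨r, f, hr, hf, hF, hch⟩ := exists_prime_pow F
  have := simple_congr e hs
  have := finite_group (K := F) chevE8
  have D := data_E8_3 hr hf hF
  have hB : BigF r (r ^ f) ↥(chevE8.group F) := ExcRows.big_E8 hr hf hF (in_A2 D (by decide +kernel) rfl)
    (in_node D 1 3 (by decide +kernel)) (by rw [← range_k8]; exact in_chain D (by norm_num) k8 hk8)
  exact Row.congr e ⟨⟨r, f, _, hr, hf, rfl, hB⟩, fun p hp hd => im_of hr (by norm_num) D hB.big hp hd,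
    fun hnc => im_four_of hnc hr D 0 rfl hf rfl hB⟩

theorem row_E7 {S : Type*} [Group S] (h : Lie.IsoE7 S) (hs : IsSimpleGroup S) : Row S := by
  obtain ⟨F, _, _, ⟨e⟩⟩ := h
  obtain ⟨r, f, hr, hf, hF, hch⟩ := exists_prime_pow F
  have := simple_congr e hs
  have := finite_group (K := F) chevE7
  have D := data_E7_3 hr hf hF
  have hB : BigF r (r ^ f) ↥(chevE7.group F) := ExcRows.big_E7 hr hf hF (in_A2 D (by decide +kernel) rfl)
    (in_node D 1 3 (by decide +kernel)) (by rw [← range_k7]; exact in_chain D (by norm_num) k7 hk7)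
  exact Row.congr e ⟨⟨r, f, _, hr, hf, rfl, hB⟩, fun p hp hd => im_of hr (by norm_num) D hB.big hp hd,
    fun hnc => im_four_of hnc hr D 0 rfl hf rfl hB⟩

theorem row_E6 {S : Type*} [Group S] (h : Lie.IsoChevE6 S) (hs : IsSimpleGroup S) : Row S := by
  obtain ⟨F, _, _, ⟨e⟩⟩ := h
  obtain ⟨r, f, hr, hf, hF, hch⟩ := exists_prime_pow F
  have := simple_congr e hs
  have := finite_group (K := F) chevE6
  have D := data_E6_3 hr hf hF
  have hB : BigF r (r ^ f) ↥(chevE6.group F) := ExcRows.big_E6 hr hf hF (in_A2 D (by decide +kernel) rfl)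
    (in_pair D (by decide +kernel)) (in_node D 1 3 (by decide +kernel))
  exact Row.congr e ⟨⟨r, f, _, hr, hf, rfl, hB⟩, fun p hp hd => im_of hr (by norm_num) D hB.big hp hd,
    fun hnc => im_four_of hnc hr D 0 rfl hf rfl hB⟩

theorem row_F4 {S : Type*} [Group S] (h : Lie.IsoF4 S) (hs : IsSimpleGroup S) : Row S := by
  obtain ⟨F, _, _, ⟨e⟩⟩ := h
  obtain ⟨r, f, hr, hf, hF, hch⟩ := exists_prime_pow F
  have := simple_congr e hs
  have := finite_group (K := F) chevF4
  have D := data_F4_2 hr hf hF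
  have hB : BigF r (r ^ f) ↥(chevF4.group F) := ExcRows.big_F4 hr hf hF (in_A2 D (by decide +kernel) rfl)
    (in_node D 3 2 (by decide +kernel))
  exact Row.congr e ⟨⟨r, f, _, hr, hf, rfl, hB⟩, fun p hp hd => im_of hr (by norm_num) D hB.big hp hd,
    fun hnc => im_four_of hnc hr D 0 rfl hf rfl hB⟩

theorem row_TwE6 {S : Type*} [Group S] (h : Lie.Iso2E6 S) (hs : IsSimpleGroup S) : Row S := by
  obtain ⟨K, _, _, q, hq, hK, ⟨e⟩⟩ := h
  obtain ⟨r, f, hr, hf, hqf⟩ := (isPrimePow_nat_iff q).1 hq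
  have hch : CharP K r := by
    obtain ⟨r', g, hr', hg, hK', hch⟩ := exists_prime_pow K
    have h1 : r' = r := by
      have h2 : r' ∣ r ^ (f * 2) := by
        rw [pow_mul, hqf, ← hK, hK']
        exact dvd_pow_self _ hg
      exact (Nat.prime_dvd_prime_iff_eq hr' hr).1 (hr'.dvd_of_dvd_pow h2)
    rwa [h1] at hch
  obtain ⟨φ, hφ, hqq⟩ := Cfsg.Agent.ChevalleyStructure.TwE6Basic.exists_frob hq hK
  have := simple_congr e hs
  have : Finite ↥(twistedE6 K q) := by
    have : Finite (GL chevE6.Idx K) := by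
      have : Finite (Matrix chevE6.Idx chevE6.Idx K) := inferInstance
      infer_instance
    infer_instance
  have D := data_TwE6_2 hr hf.ne' hqf.symm hφ hqq hK
  have hB : BigF r q ↥(twistedE6 K q) := ExcRows.big_TwE6 hr hf.ne' hqf.symm hφ hqq hK (in_A2 D (by decide +kernel) rfl)
    (in_node D 3 2 (by decide +kernel))
  exact Row.congr e ⟨⟨r, f, _, hr, hf.ne', hqf.symm, hB⟩, fun p hp hd => im_of hr (by norm_num) D hB.big hp hd,
    fun hnc => im_four_of hnc hr D 0 rfl hf.ne' hqf.symm hB⟩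

theorem im_F4 (S : Type*) [Group S] [Finite S] (h : Lie.IsoF4 S) (hs : IsSimpleGroup S) {p : ℕ} [hp : Fact p.Prime]
    (hd : p ∣ Nat.card S) : H33.IM p S := (row_F4 h hs).im p hp.out hd

theorem im_E6 (S : Type*) [Group S] [Finite S] (h : Lie.IsoChevE6 S) (hs : IsSimpleGroup S) {p : ℕ}
    [hp : Fact p.Prime] (hd : p ∣ Nat.card S) : H33.IM p S := (row_E6 h hs).im p hp.out hd

theorem im_E7 (S : Type*) [Group S] [Finite S] (h : Lie.IsoE7 S) (hs : IsSimpleGroup S) {p : ℕ} [hp : Fact p.Prime]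
    (hd : p ∣ Nat.card S) : H33.IM p S := (row_E7 h hs).im p hp.out hd

theorem im_E8 (S : Type*) [Group S] [Finite S] (h : Lie.IsoE8 S) (hs : IsSimpleGroup S) {p : ℕ} [hp : Fact p.Prime]
    (hd : p ∣ Nat.card S) : H33.IM p S := (row_E8 h hs).im p hp.out hd

theorem im_TwE6 (S : Type*) [Group S] [Finite S] (h : Lie.Iso2E6 S) (hs : IsSimpleGroup S) {p : ℕ}
    [hp : Fact p.Prime] (hd : p ∣ Nat.card S) : H33.IM p S := (row_TwE6 h hs).im p hp.out hd

end Cfsg.Agent.H53.HC.ExcIM
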