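import Cfsg.Agent.H53.HC.ExcIM
import Cfsg.Agent.H396.CommTab3
import Cfsg.Agent.H996.Deg.RgdEdge

/-!
# The degree graph of `F₄`, `E₆`, `E₇`, `E₈`, `²E₆` (hub H5, helper53)

* `conn_E6`, `conn_E7`, `conn_E8`, `conn_TwE6` : the degree graph is connected;
* `conn_F4` : the same for `F₄(q)`, `q ≥ 3`; for `q = 2` from an edge at `2`.
(among three vertices two are adjacent: `Row.ind`)
-/

set_option autoImplicit false

namespace Cfsg.Agent.H53.HC.ExcIM

open Cfsg.Agent.H53.HC Cfsg.Agent.H53.HC.ExcRows Cfsg.Agent.H35.ExcIdx Cfsg.Lie Cfsg.Agent.Nodes.RGDChev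
open Cfsg.Agent.H671.H5

/-- connectedness from a big character and an edge at the characteristic -/
theorem conn_of_cg {r : ℕ} {S : Type*} [Group S] [Finite S] [IsSimpleGroup S] (hnc : ¬ IsMulCommutative S)
    (hr : r.Prime) (hB : Big r S) (hS : H396.HasCG r S) :
    ((degreeGraph S).induce (degreePrimes S)).Connected := by
  obtain ⟨l, -, -, h⟩ := H996.Deg.adj hr hnc hS
  exact hB.conn h

theorem conn_E8 {S : Type*} [Group S] [Finite S] (h : Lie.IsoE8 S) (hs : IsSimpleGroup S)
    (hnc : ¬ IsMulCommutative S) : ((degreeGraph S).induce (degreePrimes S)).Connected := by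
  obtain ⟨F, _, _, ⟨e⟩⟩ := h
  obtain ⟨r, f, hr, hf, hF, hch⟩ := exists_prime_pow F
  have := simple_congr e hs
  have := finite_group (K := F) chevE8
  have D := data_E8_3 hr hf hF
  have hB : BigF r (r ^ f) ↥(chevE8.group F) := ExcRows.big_E8 hr hf hF (in_A2 D (by decide +kernel) rfl)
    (in_node D 1 3 (by decide +kernel)) (by rw [← range_k8]; exact in_chain D (by norm_num) k8 hk8)
  exact conn_of_cg hnc hr (hB.big.of_equiv e) ((H396.CommTab.hasCG_E8 F r).of_equiv e.symm)

theorem conn_E7 {S : Type*} [Group S] [Finite S] (h : Lie.IsoE7 S) (hs : IsSimpleGroup S)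
    (hnc : ¬ IsMulCommutative S) : ((degreeGraph S).induce (degreePrimes S)).Connected := by
  obtain ⟨F, _, _, ⟨e⟩⟩ := h
  obtain ⟨r, f, hr, hf, hF, hch⟩ := exists_prime_pow F
  have := simple_congr e hs
  have := finite_group (K := F) chevE7
  have D := data_E7_3 hr hf hF
  have hB : BigF r (r ^ f) ↥(chevE7.group F) := ExcRows.big_E7 hr hf hF (in_A2 D (by decide +kernel) rfl)
    (in_node D 1 3 (by decide +kernel)) (by rw [← range_k7]; exact in_chain D (by norm_num) k7 hk7)
  exact conn_of_cg hnc hr (hB.big.of_equiv e) ((H396.CommTab.hasCG_E7 F r).of_equiv e.symm)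

theorem conn_E6 {S : Type*} [Group S] [Finite S] (h : Lie.IsoChevE6 S) (hs : IsSimpleGroup S)
    (hnc : ¬ IsMulCommutative S) : ((degreeGraph S).induce (degreePrimes S)).Connected := by
  obtain ⟨F, _, _, ⟨e⟩⟩ := h
  obtain ⟨r, f, hr, hf, hF, hch⟩ := exists_prime_pow F
  have := simple_congr e hs
  have := finite_group (K := F) chevE6
  have D := data_E6_3 hr hf hF
  have hB : BigF r (r ^ f) ↥(chevE6.group F) := ExcRows.big_E6 hr hf hF (in_A2 D (by decide +kernel) rfl)
    (in_pair D (by decide +kernel)) (in_node D 1 3 (by decide +kernel))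
  exact conn_of_cg hnc hr (hB.big.of_equiv e) ((H396.CommTab.hasCG_E6 F r).of_equiv e.symm)

theorem conn_F4 {S : Type*} [Group S] [Finite S] (h : Lie.IsoF4 S) (hs : IsSimpleGroup S)
    (hnc : ¬ IsMulCommutative S) (h2 : ∀ (F : Type) (_ : Field F) (_ : Fintype F), Fintype.card F = 2 →
      Nonempty (S ≃* ↥(chevF4.group F)) → ∃ ℓ, Adj 2 ℓ S) :
    ((degreeGraph S).induce (degreePrimes S)).Connected := by
  obtain ⟨F, _, _, ⟨e⟩⟩ := h
  obtain ⟨r, f, hr, hf, hF, hch⟩ := exists_prime_pow F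
  have := simple_congr e hs
  have := finite_group (K := F) chevF4
  have D := data_F4_2 hr hf hF
  have hB : BigF r (r ^ f) ↥(chevF4.group F) := ExcRows.big_F4 hr hf hF (in_A2 D (by decide +kernel) rfl)
    (in_node D 3 2 (by decide +kernel))
  by_cases hc : Fintype.card F = 2
  · obtain ⟨ℓ, hℓ⟩ := h2 F _ _ hc ⟨e⟩
    have h3 : r = 2 := by
      rw [hF] at hc
      have h4 : r ∣ 2 := by rw [← hc]; exact dvd_pow_self _ hf
      exact (Nat.prime_dvd_prime_iff_eq hr Nat.prime_two).1 h4
    subst h3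
    exact (hB.big.of_equiv e).conn hℓ
  · refine conn_of_cg hnc hr (hB.big.of_equiv e) ((H396.CommTab.hasCG_F4 F r ?_).of_equiv e.symm)
    have h3 : 2 < Fintype.card F := lt_of_le_of_ne Fintype.one_lt_card (Ne.symm hc)
    classical
    by_contra hcon
    push Not at hcon
    have h6 : (Finset.univ : Finset F) ⊆ {0, 1} := by
      intro x _
      by_cases hx : x = 0
      · simp [hx]
      · simp [hcon x hx]
    have h7 := Finset.card_le_card h6
    rw [Finset.card_univ] at h7
    have h8 := Finset.card_le_two (a := (0 : F)) (b := 1)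
    omega

theorem conn_TwE6 {S : Type*} [Group S] [Finite S] (h : Lie.Iso2E6 S) (hs : IsSimpleGroup S)
    (hnc : ¬ IsMulCommutative S) : ((degreeGraph S).induce (degreePrimes S)).Connected := by
  obtain ⟨K, _, _, q, hq, hK, ⟨e⟩⟩ := h
  obtain ⟨r, f, hr, hf, hqf⟩ := (isPrimePow_nat_iff q).1 hq
  have hch : CharP K r := by
    obtain ⟨r', g, hr', hg, hK', hch⟩ := exists_prime_pow K
    have h1 : r' = r := by
      have h2 : r' ∣ r ^ (f * 2) := by
        rw [pow_mul, hqf, ← hK, hK']
        exact dvd_pow_self _ hg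
      exact (Nat.prime_dvd_prime_iff_eq hr' hr).1 (hr'.dvd_of_dvd_pow h2)
    rwa [h1] at hch
  obtain ⟨φ, hφ, hqq⟩ := Cfsg.Agent.ChevalleyStructure.TwE6Basic.exists_frob hq hK
  have := simple_congr e hs
  have : Finite ↥(twistedE6 K q) := by
    have : Finite (GL chevE6.Idx K) := by
      have : Finite (Matrix chevE6.Idx chevE6.Idx K) := inferInstance
      infer_instance
    infer_instance
  have D := data_TwE6_2 hr hf.ne' hqf.symm hφ hqq hK
  have hB : BigF r q ↥(twistedE6 K q) := ExcRows.big_TwE6 hr hf.ne' hqf.symm hφ hqq hK (in_A2 D (by decide +kernel) rfl)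
    (in_node D 3 2 (by decide +kernel))
  exact conn_of_cg hnc hr (hB.big.of_equiv e) ((H396.CommTab.hasCG_twE6 hq hK r).of_equiv e.symm)

end Cfsg.Agent.H53.HC.ExcIM
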