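import Cfsg.Agent.H53.HC.TwoBase

/-!
# Two characters of degree divisible by `p`: `²E₆(q)` (FactTwo, hub H5, helper53)

`two_TwE6` : `p` not the characteristic.
-/

set_option autoImplicit false
set_option linter.unusedSectionVars false

namespace Cfsg.Agent.H53.HC.TwoRows

open Cfsg.Agent.H53.HC Cfsg.Agent.H53.HC.ExcRows Cfsg.Agent.H53.HC.ExcIM Cfsg.Agent.H35.ExcIdx Cfsg.Lie
  Cfsg.Agent.Nodes.RGDChev
open CoxeterSystem Cfsg.Agent.ChevalleyStructure.CoxeterGeom Cfsg.Agent.Tits.Roots Cfsg.Agent.Tits.Core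
  Cfsg.Agent.Tits.Exchange Cfsg.Agent.Nodes.Reps Cfsg.Agent.Nodes.BNOf Cfsg.Agent.Nodes.StabComb
  Cfsg.Agent.Nodes.Bruhat Cfsg.Agent.Nodes.OppDec Cfsg.Agent.Nodes.LeviDec

section gen

variable {r q l : ℕ} {M : CoxeterMatrix (Fin l)} {A : Fin l → Fin l → ℤ} {h : IsCartan M A} {f : Fin l → ℕ}
  {S : Type*} [Group S] {T : Subgroup S} {n : Fin l → S} {X : (Fin l → ℤ) → Subgroup S}

/-- the character of a maximal parabolic subgroup with one component of type `A_2` (`Q` the order of its simple root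
groups) and its degree -/
theorem exists_one [Finite S] {Q : ℕ} {j k₀ k₁ : Fin l} {K' : Set (Fin l)}
    (D : ExcData r q h f {i | i ≠ j} T n X) (hJ : ({i | i ≠ j} : Set (Fin l)) = {k₀, k₁} ∪ K')
    (ho : ∀ i ∈ ({k₀, k₁} : Set (Fin l)), ∀ i' ∈ K', M i i' = 2) (hk : M k₀ k₁ = 3) (hk1 : M k₁ j = 2)
    (hk0 : M k₀ j = 3 ∨ M k₀ j = 4)
    (hun : ∀ a b, a ≠ j → b ≠ j → M a b = 3 → (∀ c, c ≠ j → c ≠ a → c ≠ b → M a c = 2 ∧ M b c = 2) →
      (a = k₀ ∧ b = k₁) ∨ (a = k₁ ∧ b = k₀)) (hQ : f k₀ = Q)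
    {θ' : ↥(MJ M.toCoxeterSystem h X K') → ℂ} (hθ' : Cusp M.toCoxeterSystem h X K' θ') {e : ℕ} (he : θ' 1 = e) :
    ∃ χ : S → ℂ, IsIrrCharacter S χ ∧ ∃ k d t : ℕ,
      χ 1 = (((PJ M.toCoxeterSystem h T X {i | i ≠ j}).index * (k * (d * e)) : ℕ) : ℂ) ∧ 0 < k ∧ k ∣ Nat.card T ∧
      d * t = (Q - 1) * (Q ^ 2 - 1) ∧ t ∣ 3 := by
  classical
  have := D.fin
  have : Fintype S := Fintype.ofFinite S
  obtain ⟨θ, hθ, hns, d, t, hd, hdt, ht⟩ := H622.Levi.inA2 D.rgd hk ((D.size k₀).trans hQ)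
  have hmem : ∀ i, i ∈ ({i | i ≠ j} : Set (Fin l)) ↔ i ≠ j := fun i => Iff.rfl
  have hk0J : k₀ ∈ ({i | i ≠ j} : Set (Fin l)) := by rw [hJ]; simp
  have hk1J : k₁ ∈ ({i | i ≠ j} : Set (Fin l)) := by rw [hJ]; simp
  obtain ⟨χ, hχ, k, hk0', hkT, hχ1⟩ := exists_irr_one' D.rgd D.gg hmem hJ (orth_of h ho) rfl
    (isoPair_of h hk0J hk1J hk fun c hc hc0 hc1 => by
      rw [hJ] at hc
      rcases hc with hc | hc
      · rcases hc with rfl | rfl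
        · exact absurd rfl hc0
        · exact absurd rfl hc1
      · exact ⟨ho _ (by simp) c hc, ho _ (by simp) c hc⟩)
    (cartan_two h hk1).1 (not_three_dvd h hk0)
    (fun a b hab => by
      obtain ⟨h1, h2, h3, h4⟩ := of_isoPair h hab
      exact hun a b h1 h2 h3 h4)
    hθ hns hθ'
  refine ⟨χ, hχ, k, d, t, ?_, hk0', hkT, hdt, ht⟩
  rw [hχ1, hd, he]
  push_cast
  ring

/-- all the primes different from the characteristic divide these degrees -/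
theorem dvd_deg [Finite S] (hr : r.Prime) {Q : ℕ} (hQ : 2 ≤ Q) {J : Set (Fin l)} (D : ExcData r q h f J T n X)
    {k d t e : ℕ} (hdt : d * t = (Q - 1) * (Q ^ 2 - 1)) (ht : t ∣ 3) {ℓ : ℕ} (hℓ : ℓ.Prime) (h1 : ℓ ∣ Nat.card S)
    (h2 : ℓ ≠ r) (hqQ : q - 1 ∣ Q - 1) : ℓ ∣ (PJ M.toCoxeterSystem h T X J).index * (k * (d * e)) := by
  by_cases h3 : ℓ ∣ q - 1
  · have h4 := dvd_of_mul_eq hℓ hQ (h3.trans hqQ) ht hdt
    exact Dvd.dvd.mul_left (Dvd.dvd.mul_left (Dvd.dvd.mul_right h4 _) _) _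
  · exact Dvd.dvd.mul_right (D.idx ℓ hℓ h1 (fun h4 => h2 ((Nat.prime_dvd_prime_iff_eq hℓ hr).1 h4)) h3) _

/-- two irreducible characters of different degrees divisible by `p` -/
theorem two_of {p : ℕ} {χ χ' : S → ℂ} [Finite S] (hχ : IsIrrCharacter S χ) (hχ' : IsIrrCharacter S χ') {N N' : ℕ}
    (h1 : χ 1 = N) (h1' : χ' 1 = N') (hN : p ∣ N) (hN' : p ∣ N') (hne : N ≠ N') : H596.OneFacts.Two p S := by
  have k1 := Cfsg.Agent.Blocks.Basic.irr_one_eq_charDegree hχ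
  have k2 := Cfsg.Agent.Blocks.Basic.irr_one_eq_charDegree hχ'
  have e1 : charDegree χ = N := by
    rw [h1] at k1
    exact_mod_cast k1.symm
  have e2 : charDegree χ' = N' := by
    rw [h1'] at k2
    exact_mod_cast k2.symm
  refine H596.OneFacts.two_of_degree_ne ⟨χ, hχ⟩ ⟨χ', hχ'⟩ ?_ ?_ ?_
  · show p ∣ charDegree χ
    rwa [e1]
  · show p ∣ charDegree χ'
    rwa [e2]
  · show charDegree χ ≠ charDegree χ'
    rwa [e1, e2]

end gen

section tw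

open Cfsg.Agent.Nodes

variable {K : Type} [Field K] [Fintype K] {q : ℕ} {φ : K →+* K}
  {r f : ℕ} (hr : r.Prime) (hf : f ≠ 0) (hq : q = r ^ f) [CharP K r]
  (hφ : ∀ x, φ x = x ^ q) (hqq : ∀ t : K, (t ^ q) ^ q = t) (hK : Fintype.card K = q ^ 2)

/-- the condition on the node `1` -/
theorem un41 : Un m4 1 2 3 := by decide +kernel
theorem or41 : Or m4 [2, 3] [0] := by decide +kernel

theorem compl41 : ({i | i ≠ 1} : Set (Fin 4)) = {2, 3} ∪ {0} := by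
  ext i
  simp only [Set.mem_ofPred_eq, Set.mem_union, Set.mem_insert_iff, Set.mem_singleton_iff]
  revert i; decide

include hr hf hq hqq hK in
theorem card_TwE6_2 (R : RGD CoxeterMatrix.F₄.toCoxeterSystem Nodes.RGDTwE6.isCartan r (Nodes.RGDTwE6.T K q)
      (Nodes.RGDTwE6.nn hφ) (Nodes.RGDTwE6.X φ q)) [Finite CoxeterMatrix.F₄.Group]
    (hc : ∀ i, Nat.card (Nodes.RGDTwE6.X φ q (sr i)) = fE q i) :
    Nat.card ↥(PJ CoxeterMatrix.F₄.toCoxeterSystem Nodes.RGDTwE6.isCartan (Nodes.RGDTwE6.T K q)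
        (Nodes.RGDTwE6.X φ q) {j | j ≠ 2}) =
      (FA 2 q * (FA 1 (q ^ 2) * 1)) * Nat.card ↥(RGD.B CoxeterMatrix.F₄.toCoxeterSystem Nodes.RGDTwE6.isCartan
        (Nodes.RGDTwE6.T K q) (Nodes.RGDTwE6.X φ q)) := by
  have hJ : ({j | j ≠ 2} : Set (Fin 4)) = {j | j ∈ ([0, 1, 3] : List (Fin 4))} := by
    ext j; revert j; decide
  rw [hJ]
  refine card_step R path_T_0 (fun i hi => ?_) (card_step R path_T_1 (fun i hi => ?_) (card_nil R))
  · rw [hc]; revert i; simp [fE]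
  · rw [hc]; revert i; simp [fE]

include hr hf hq hqq hK in
theorem card_TwE6_1 (R : RGD CoxeterMatrix.F₄.toCoxeterSystem Nodes.RGDTwE6.isCartan r (Nodes.RGDTwE6.T K q)
      (Nodes.RGDTwE6.nn hφ) (Nodes.RGDTwE6.X φ q)) [Finite CoxeterMatrix.F₄.Group]
    (hc : ∀ i, Nat.card (Nodes.RGDTwE6.X φ q (sr i)) = fE q i) :
    Nat.card ↥(PJ CoxeterMatrix.F₄.toCoxeterSystem Nodes.RGDTwE6.isCartan (Nodes.RGDTwE6.T K q)
        (Nodes.RGDTwE6.X φ q) {j | j ≠ 1}) =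
      (FA 1 q * (FA 2 (q ^ 2) * 1)) * Nat.card ↥(RGD.B CoxeterMatrix.F₄.toCoxeterSystem Nodes.RGDTwE6.isCartan
        (Nodes.RGDTwE6.T K q) (Nodes.RGDTwE6.X φ q)) := by
  have hJ : ({j | j ≠ 1} : Set (Fin 4)) = {j | j ∈ ([0, 2, 3] : List (Fin 4))} := by
    ext j; revert j; decide
  rw [hJ]
  refine card_step R path_T_2 (fun i hi => ?_) (card_step R path_T_3 (fun i hi => ?_) (card_nil R))
  · rw [hc]; revert i; simp [fE]
  · rw [hc]; revert i; simp [fE]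

/-- the arithmetic -/
theorem arith {q : ℕ} (hq : 2 ≤ q) {i₁ i₂ b s k₁ d₁ t₁ e₁ u₁ k₂ d₂ t₂ e₂ c : ℕ} (hs : 0 < s)
    (h1 : i₁ * ((FA 2 q * (FA 1 (q ^ 2) * 1)) * b) = s) (h2 : i₂ * ((FA 1 q * (FA 2 (q ^ 2) * 1)) * b) = s)
    (hc : Nat.gcd 3 (q + 1) * c = (q - 1) ^ 4 * (q + 1) ^ 2) (hk₁ : k₁ ∣ c)
    (hd₁ : d₁ * t₁ = (q - 1) * (q ^ 2 - 1)) (he₁ : e₁ * u₁ = q ^ 2 - 1)
    (hd₂ : d₂ * t₂ = (q ^ 2 - 1) * ((q ^ 2) ^ 2 - 1)) (ht₂ : t₂ ∣ 3) :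
    i₁ * (k₁ * (d₁ * e₁)) ≠ i₂ * (k₂ * (d₂ * e₂)) := by
  intro he
  obtain ⟨f1, f2, f3, f4⟩ := fac (show 1 ≤ q by omega)
  -- an odd prime divisor of `q ^ 2 + 1`
  obtain ⟨ℓ, hℓ, hℓ1, hℓ2⟩ : ∃ ℓ : ℕ, ℓ.Prime ∧ ℓ ≠ 2 ∧ ℓ ∣ q ^ 2 + 1 := by
    by_contra hcon
    push Not at hcon
    have h3 : ∀ ℓ : ℕ, ℓ.Prime → ℓ ∣ q ^ 2 + 1 → ℓ = 2 := fun ℓ hℓ h4 => by
      by_contra h5
      exact hcon ℓ hℓ h5 h4
    have h4 : q ^ 2 + 1 = 2 ^ (q ^ 2 + 1).primeFactorsList.length :=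
      Nat.eq_prime_pow_of_unique_prime_dvd (by positivity) fun {d} hd hd' => h3 d hd hd'
    rcases Nat.lt_or_ge (q ^ 2 + 1).primeFactorsList.length 2 with h5 | h5
    · have h6 : q ^ 2 + 1 ≤ 2 := by
        rw [h4]
        calc 2 ^ (q ^ 2 + 1).primeFactorsList.length ≤ 2 ^ 1 := Nat.pow_le_pow_right (by norm_num) (by omega)
          _ = 2 := by norm_num
      nlinarith
    · have h6 : 4 ∣ q ^ 2 + 1 := by
        rw [h4]
        exact pow_dvd_pow 2 h5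
      have h7 : q ^ 2 % 4 = 0 ∨ q ^ 2 % 4 = 1 := by
        have : q % 4 = 0 ∨ q % 4 = 1 ∨ q % 4 = 2 ∨ q % 4 = 3 := by omega
        rcases this with h | h | h | h <;> simp [Nat.pow_mod, h]
      omega
  have hN : q ^ 2 ≡ ℓ - 1 [MOD ℓ] := by
    have h3 : q ^ 2 + 1 ≡ (ℓ - 1) + 1 [MOD ℓ] := by
      rw [Nat.sub_add_cancel hℓ.one_lt.le]
      exact ((Nat.modEq_zero_iff_dvd).2 hℓ2).trans ((Nat.modEq_zero_iff_dvd).2 dvd_rfl).symm
    exact Nat.ModEq.add_right_cancel' 1 h3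
  -- `ℓ` is prime to `q ^ 2 - 1`
  have h5 : ¬ ℓ ∣ q ^ 2 - 1 := by
    intro h6
    have h7 : ℓ ∣ 2 := by
      have h8 := Nat.dvd_sub hℓ2 h6
      have h9 : q ^ 2 + 1 - (q ^ 2 - 1) = 2 := by
        have : 1 ≤ q ^ 2 := Nat.one_le_pow _ _ (by omega)
        omega
      rwa [h9] at h8
    exact hℓ1 ((Nat.prime_dvd_prime_iff_eq hℓ Nat.prime_two).1 h7)
  have h6 : ¬ ℓ ∣ q - 1 := fun h7 => h5 (by rw [f1]; exact Dvd.dvd.mul_right h7 _)
  have h7 : ¬ ℓ ∣ q + 1 := fun h7 => h5 (by rw [f1]; exact Dvd.dvd.mul_left h7 _)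
  have h8 : ¬ ℓ ∣ k₁ := by
    intro h9
    have h10 : ℓ ∣ (q - 1) ^ 4 * (q + 1) ^ 2 := by
      rw [← hc]
      exact Dvd.dvd.mul_left (h9.trans hk₁) _
    rcases hℓ.dvd_mul.1 h10 with h11 | h11
    · exact h6 (hℓ.dvd_of_dvd_pow h11)
    · exact h7 (hℓ.dvd_of_dvd_pow h11)
  have h9 : ¬ ℓ ∣ d₁ := by
    intro h10
    have h11 : ℓ ∣ (q - 1) * (q ^ 2 - 1) := by
      rw [← hd₁]
      exact Dvd.dvd.mul_right h10 _
    rcases hℓ.dvd_mul.1 h11 with h12 | h12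
    · exact h6 h12
    · exact h5 h12
  have h10 : ¬ ℓ ∣ e₁ := by
    intro h11
    apply h5
    rw [← he₁]
    exact Dvd.dvd.mul_right h11 _
  have h11 : ¬ ℓ ∣ 1 + q ^ 2 + q ^ 4 := by
    intro h12
    have e : 1 + q ^ 2 + q ^ 4 = q ^ 2 * (q ^ 2 + 1) + 1 := by ring
    rw [e] at h12
    have h13 := (Nat.dvd_add_right (Dvd.dvd.mul_left hℓ2 (q ^ 2))).1 h12
    exact hℓ.one_lt.ne' (Nat.dvd_one.1 h13)
  -- `ℓ` divides `d₂`
  have h12 : ℓ ∣ d₂ := by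
    have h13 : ℓ ∣ d₂ * t₂ := by
      rw [hd₂]
      have e : (q ^ 2) ^ 2 - 1 = (q ^ 2 - 1) * (q ^ 2 + 1) := by
        have : 1 ≤ q ^ 2 := Nat.one_le_pow _ _ (by omega)
        obtain ⟨x, hx⟩ := Nat.exists_eq_add_of_le this
        rw [hx, Nat.add_sub_cancel_left]
        apply Nat.sub_eq_of_eq_add
        ring
      rw [e]
      exact Dvd.dvd.mul_left (Dvd.dvd.mul_left hℓ2 _) _
    rcases hℓ.dvd_mul.1 h13 with h14 | h14
    · exact h14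
    · have h15 : ℓ = 3 := (Nat.prime_dvd_prime_iff_eq hℓ Nat.prime_three).1 (h14.trans ht₂)
      subst h15
      have : q % 3 = 0 ∨ q % 3 = 1 ∨ q % 3 = 2 := by omega
      have h16 : (q ^ 2 + 1) % 3 = 0 := Nat.mod_eq_zero_of_dvd hℓ2
      rcases this with h | h | h <;> simp [Nat.pow_mod, Nat.add_mod, h] at h16
  -- compare
  have e0 : (FA 2 q * (FA 1 (q ^ 2) * 1)) = (1 + q) * (1 + q ^ 2) * (1 + q + q ^ 2) := by
    simp only [FA, Finset.prod_range_succ, Finset.prod_range_zero, Finset.sum_range_succ, Finset.sum_range_zero]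
    ring
  have e1 : (FA 1 q * (FA 2 (q ^ 2) * 1)) = (1 + q) * (1 + q ^ 2) * (1 + q ^ 2 + q ^ 4) := by
    simp only [FA, Finset.prod_range_succ, Finset.prod_range_zero, Finset.sum_range_succ, Finset.sum_range_zero]
    ring
  rw [e0] at h1
  rw [e1] at h2
  have hb : 0 < b := Nat.pos_of_ne_zero (by rintro rfl; simp at h1; omega)
  have hi₂ : 0 < i₂ := Nat.pos_of_ne_zero (by rintro rfl; simp at h2; omega)
  have e2 : i₁ * (1 + q + q ^ 2) = i₂ * (1 + q ^ 2 + q ^ 4) := by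
    have h13 : 0 < (1 + q) * (1 + q ^ 2) * b := by positivity
    refine Nat.eq_of_mul_eq_mul_right h13 ?_
    rw [← h2] at h1
    calc i₁ * (1 + q + q ^ 2) * ((1 + q) * (1 + q ^ 2) * b)
        = i₁ * ((1 + q) * (1 + q ^ 2) * (1 + q + q ^ 2) * b) := by ring
      _ = i₂ * ((1 + q) * (1 + q ^ 2) * (1 + q ^ 2 + q ^ 4) * b) := h1
      _ = _ := by ring
  have e3 : (1 + q ^ 2 + q ^ 4) * (k₁ * (d₁ * e₁)) = (1 + q + q ^ 2) * (k₂ * (d₂ * e₂)) := by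
    refine Nat.eq_of_mul_eq_mul_left hi₂ ?_
    calc i₂ * ((1 + q ^ 2 + q ^ 4) * (k₁ * (d₁ * e₁))) = (i₂ * (1 + q ^ 2 + q ^ 4)) * (k₁ * (d₁ * e₁)) := by ring
      _ = (1 + q + q ^ 2) * (i₁ * (k₁ * (d₁ * e₁))) := by rw [← e2]; ring
      _ = _ := by rw [he]; ring
  have h13 : ℓ ∣ (1 + q ^ 2 + q ^ 4) * (k₁ * (d₁ * e₁)) := by
    rw [e3]
    exact Dvd.dvd.mul_left (Dvd.dvd.mul_left (Dvd.dvd.mul_right h12 _) _) _
  rw [hℓ.dvd_mul, hℓ.dvd_mul, hℓ.dvd_mul] at h13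
  tauto

include hr hf hq hqq hK hφ in
theorem two_tw {p : ℕ} (hp : p.Prime) (hd : p ∣ Nat.card ↥(twistedE6 K q)) (hpr : p ≠ r) :
    H596.OneFacts.Two p ↥(twistedE6 K q) := by
  have : Finite ↥(twistedE6 K q) := by
    have : Finite (GL chevE6.Idx K) := by
      have : Finite (Matrix chevE6.Idx chevE6.Idx K) := inferInstance
      infer_instance
    infer_instance
  have h2 : 2 ≤ q := by rw [hq]; exact two_le hr hf
  have hpp : IsPrimePow q := by rw [hq]; exact hr.isPrimePow.pow hf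
  have h22 : 2 ≤ q ^ 2 := by nlinarith
  have D2 := data_TwE6_2 hr hf hq hφ hqq hK
  have D1 := data_TwE6_1 hr hf hq hφ hqq hK
  have := D2.fin
  obtain ⟨θ, e₁, u₁, hθ, hθ1, he₁, -⟩ := H622.Levi.cusp_node D2.rgd 3 2 (by decide +kernel)
    ((D2.size 3).trans (show fE q 3 = q ^ 2 from rfl))
  obtain ⟨η, e₂, u₂, hη, hη1, he₂, -⟩ := H622.Levi.cusp_node D1.rgd 0 1 (by decide +kernel)
    ((D1.size 0).trans (show fE q 0 = q from rfl))
  obtain ⟨χ, hχ, k₁, d₁, t₁, hχ1, -, hkT, hdt, ht⟩ := exists_one D2 (Q := q) (K' := {3}) compl4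
    (fun i hi i' hi' => or4 i (by simpa using hi) i' (by simpa using hi')) (by decide +kernel) (by decide +kernel)
    (by decide +kernel) un4 rfl hθ hθ1
  obtain ⟨χ', hχ', k₂, d₂, t₂, hχ1', -, -, hdt', ht'⟩ := exists_one D1 (Q := q ^ 2) (K' := {0}) compl41
    (fun i hi i' hi' => or41 i (by simpa using hi) i' (by simpa using hi')) (by decide +kernel) (by decide +kernel)
    (by decide +kernel) un41 rfl hη hη1
  have hT : Nat.gcd 3 (q + 1) * Nat.card ↥(Nodes.RGDTwE6.T K q) = (q - 1) ^ 4 * (q + 1) ^ 2 := by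
    rw [← Cfsg.Agent.S1102.result hpp hK]
    congr 1
    exact Nat.card_congr (Subgroup.subgroupOfEquivOfLe inf_le_right).toEquiv
  refine two_of hχ hχ' hχ1 hχ1' (dvd_deg hr h2 D2 hdt ht hp hd hpr dvd_rfl)
    (dvd_deg hr h22 D1 hdt' ht' hp hd hpr ?_) ?_
  · rw [(fac (show 1 ≤ q by omega)).1]
    exact Dvd.intro _ rfl
  · refine arith h2 (s := Nat.card ↥(twistedE6 K q)) Nat.card_pos ?_ ?_ hT hkT hdt he₁ hdt' ht'
      (b := Nat.card ↥(RGD.B CoxeterMatrix.F₄.toCoxeterSystem Nodes.RGDTwE6.isCartan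
        (Nodes.RGDTwE6.T K q) (Nodes.RGDTwE6.X φ q)))
    · rw [← card_TwE6_2 hr hf hq hφ hqq hK D2.rgd D2.size]
      exact Subgroup.index_mul_card _
    · rw [← card_TwE6_1 hr hf hq hφ hqq hK D1.rgd D1.size]
      exact Subgroup.index_mul_card _

end tw

/-- transport along an isomorphism -/
theorem Two.of_equiv {p : ℕ} {S : Type*} {S' : Type*} [Group S] [Group S'] (e : S ≃* S')
    (h : H596.OneFacts.Two p S') : H596.OneFacts.Two p S := by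
  obtain ⟨α, β, ha, hb, hab⟩ := h
  have hd : ∀ γ : IrrCharacter S', charDegree ((γ : S' → ℂ) ∘ e) = charDegree (γ : S' → ℂ) := by
    intro γ
    simp only [charDegree, Function.comp_apply, map_one]
  refine ⟨⟨(α : S' → ℂ) ∘ e, Characters.Core.isIrr_comp e.toMonoidHom e.surjective α.2⟩,
    ⟨(β : S' → ℂ) ∘ e, Characters.Core.isIrr_comp e.toMonoidHom e.surjective β.2⟩, ?_, ?_, fun σ => ?_⟩
  · show p ∣ charDegree ((α : S' → ℂ) ∘ e)
    rw [hd]; exact ha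
  · show p ∣ charDegree ((β : S' → ℂ) ∘ e)
    rw [hd]; exact hb
  · obtain ⟨s, hs⟩ := hab ((e.symm.trans σ).trans e)
    refine ⟨e.symm s, ?_⟩
    simpa using hs

/-- **`²E₆(q)`**, `p` not the characteristic: two characters of different degrees divisible by `p`. -/
theorem two_TwE6 {S : Type*} [Group S] (h : Lie.Iso2E6 S) : ∃ r : ℕ, r.Prime ∧ r ∣ Nat.card S ∧
    (∃ (K : Type) (_ : Field K) (_ : Fintype K) (q : ℕ), IsPrimePow q ∧ Fintype.card K = q ^ 2 ∧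
      CharP K r ∧ Nonempty (S ≃* ↥(twistedE6 K q))) ∧
    ∀ p : ℕ, p.Prime → p ∣ Nat.card S → p ≠ r → H596.OneFacts.Two p S := by
  obtain ⟨K, _, _, q, hq, hK, ⟨e⟩⟩ := h
  obtain ⟨r, f, hr, hf, hqf⟩ := (isPrimePow_nat_iff q).1 hq
  have hch : CharP K r := by
    obtain ⟨r', g, hr', hg, hK', hch⟩ := exists_prime_pow K
    have h1 : r' = r := by
      have h2 : r' ∣ r ^ (f * 2) := by
        rw [pow_mul, hqf, ← hK, hK']
        exact dvd_pow_self _ hg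
      exact (Nat.prime_dvd_prime_iff_eq hr' hr).1 (hr'.dvd_of_dvd_pow h2)
    rwa [h1] at hch
  obtain ⟨φ, hφ, hqq⟩ := Cfsg.Agent.ChevalleyStructure.TwE6Basic.exists_frob hq hK
  have : Finite ↥(twistedE6 K q) := by
    have : Finite (GL chevE6.Idx K) := by
      have : Finite (Matrix chevE6.Idx chevE6.Idx K) := inferInstance
      infer_instance
    infer_instance
  have D := data_TwE6_2 hr hf.ne' hqf.symm hφ hqq hK
  refine ⟨r, hr, ?_, ⟨K, _, _, q, hq, hK, hch, ⟨e⟩⟩, fun p hp hd hpr => ?_⟩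
  · rw [Nat.card_congr e.toEquiv]
    exact dvd_card D 0 rfl hf.ne' hqf.symm
  · rw [Nat.card_congr e.toEquiv] at hd
    exact Two.of_equiv e (two_tw hr hf.ne' hqf.symm hφ hqq hK hp hd hpr)

end Cfsg.Agent.H53.HC.TwoRows
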