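import Cfsg.Agent.H53.HC.Asm
import Cfsg.Agent.H35.ExcIdxTw

/-!
# Big characters of the exceptional groups, from the characters of the Levi components (hub H5, helper53)

`Big r S` : some irreducible character of `S` has degree divisible by all the prime divisors of `|S|` other than `r`.

`big_of_one`, `big_of_two` : `Big r S` from typed root group data and the cuspidal characters of the components.
-/

set_option autoImplicit false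

open scoped ComplexConjugate
open Cfsg

namespace Cfsg.Agent.H53.HC

/-- **Big characters**: some irreducible character of `S` has degree divisible by every prime divisor of `|S|` other
than `r`. -/
def Big (r : ℕ) (S : Type*) [Group S] : Prop :=
  ∃ χ : S → ℂ, IsIrrCharacter S χ ∧ ∃ N : ℕ, χ 1 = N ∧ ∀ ℓ : ℕ, ℓ.Prime → ℓ ∣ Nat.card S → ℓ ≠ r → ℓ ∣ N

/-- a big character with degree divisible by `(q - 1) (q ^ 2 - 1) / gcd(3, q - 1)` -/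
def BigF (r q : ℕ) (S : Type*) [Group S] : Prop :=
  ∃ χ : S → ℂ, IsIrrCharacter S χ ∧ ∃ N : ℕ, χ 1 = N ∧
    (∀ ℓ : ℕ, ℓ.Prime → ℓ ∣ Nat.card S → ℓ ≠ r → ℓ ∣ N) ∧ (q - 1) * (q ^ 2 - 1) ∣ 3 * N

theorem BigF.big {r q : ℕ} {S : Type*} [Group S] (h : BigF r q S) : Big r S := by
  obtain ⟨χ, hχ, N, hN, h1, -⟩ := h
  exact ⟨χ, hχ, N, hN, h1⟩

theorem dvd_of_mul_eq {ℓ q d t : ℕ} (hℓ : ℓ.Prime) (hq : 2 ≤ q) (h1 : ℓ ∣ q - 1) (ht : t ∣ 3)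
    (hd : d * t = (q - 1) * (q ^ 2 - 1)) : ℓ ∣ d := by
  have h2 : q ^ 2 - 1 = (q - 1) * (q + 1) := by
    obtain ⟨x, rfl⟩ := Nat.exists_eq_add_of_le hq
    have : (2 + x) ^ 2 = (2 + x - 1) * (2 + x + 1) + 1 := by
      have e : 2 + x - 1 = x + 1 := by omega
      rw [e]; ring
    omega
  have h3 : ℓ * ℓ ∣ d * t := by
    rw [hd, h2, ← mul_assoc]
    exact Dvd.dvd.mul_right (Nat.mul_dvd_mul h1 h1) _
  rcases (Nat.dvd_prime Nat.prime_three).1 ht with rfl | rfl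
  · rw [mul_one] at h3
    exact (Dvd.intro _ rfl).trans h3
  · by_cases h4 : ℓ = 3
    · subst h4
      exact Nat.dvd_of_mul_dvd_mul_right (by norm_num) h3
    · have h5 : ℓ ∣ d * 3 := (Dvd.intro _ rfl).trans h3
      rcases hℓ.dvd_mul.1 h5 with h6 | h6
      · exact h6
      · exact absurd ((Nat.prime_dvd_prime_iff_eq hℓ Nat.prime_three).1 h6) h4

open CoxeterSystem Cfsg.Agent.ChevalleyStructure.CoxeterGeom Cfsg.Agent.Tits.Roots Cfsg.Agent.Tits.Core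
  Cfsg.Agent.Tits.Exchange Cfsg.Agent.Nodes.Reps Cfsg.Agent.Nodes.BNOf Cfsg.Agent.Nodes.StabComb
  Cfsg.Agent.Nodes.Bruhat Cfsg.Agent.Nodes.OppDec Cfsg.Agent.Nodes.LeviDec Cfsg.Agent.H35.ExcIdx

theorem isoPair_of {I : Type*} [Fintype I] [DecidableEq I] {M : CoxeterMatrix I} {A : I → I → ℤ} (h : IsCartan M A) {J : Set I} {a b : I}
    (ha : a ∈ J) (hb : b ∈ J) (hab : M a b = 3) (hc : ∀ c ∈ J, c ≠ a → c ≠ b → M a c = 2 ∧ M b c = 2) :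
    IsoPair A J a b := by
  obtain ⟨h1, h2⟩ := cartan_three h hab
  refine ⟨ha, hb, ?_, h1, h2, fun c hcJ hca hcb => ?_⟩
  · rintro rfl
    rw [M.diagonal] at hab
    omega
  · obtain ⟨h3, h4⟩ := hc c hcJ hca hcb
    exact ⟨(cartan_two h h3).1, (cartan_two h h4).1⟩

theorem of_isoPair {I : Type*} {M : CoxeterMatrix I} {A : I → I → ℤ} (h : IsCartan M A) {J : Set I} {a b : I}
    (hi : IsoPair A J a b) :
    a ∈ J ∧ b ∈ J ∧ M a b = 3 ∧ ∀ c ∈ J, c ≠ a → c ≠ b → M a c = 2 ∧ M b c = 2 := by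
  obtain ⟨ha, hb, hne, h1, h2, h3⟩ := hi
  refine ⟨ha, hb, ?_, fun c hcJ hca hcb => ?_⟩
  · rcases h.rel a b hne with ⟨-, h4, -⟩ | ⟨h4, -⟩ | ⟨-, ⟨h4, h5⟩ | ⟨h4, h5⟩⟩ | ⟨-, ⟨h4, h5⟩ | ⟨h4, h5⟩⟩
    · omega
    · exact h4
    all_goals omega
  · obtain ⟨h4, h5⟩ := h3 c hcJ hca hcb
    constructor
    · rcases h.rel a c hca.symm with ⟨h6, -⟩ | ⟨-, h6, -⟩ | ⟨-, ⟨h6, -⟩ | ⟨h6, -⟩⟩ | ⟨-, ⟨h6, -⟩ | ⟨h6, -⟩⟩
      · exact h6
      all_goals omega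
    · rcases h.rel b c hcb.symm with ⟨h6, -⟩ | ⟨-, h6, -⟩ | ⟨-, ⟨h6, -⟩ | ⟨h6, -⟩⟩ | ⟨-, ⟨h6, -⟩ | ⟨h6, -⟩⟩
      · exact h6
      all_goals omega

theorem not_three_dvd {I : Type*} {M : CoxeterMatrix I} {A : I → I → ℤ} (h : IsCartan M A) {a b : I}
    (hab : M a b = 3 ∨ M a b = 4) : ¬ (3 : ℤ) ∣ A a b := by
  have hne : a ≠ b := by
    rintro rfl
    rw [M.diagonal] at hab
    omega
  rcases h.rel a b hne with ⟨h4, -, -⟩ | ⟨-, h4, -⟩ | ⟨-, ⟨h4, -⟩ | ⟨h4, -⟩⟩ | ⟨h5, -⟩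
  all_goals omega

theorem orth_of {I : Type*} [Fintype I] [DecidableEq I] {M : CoxeterMatrix I} {A : I → I → ℤ} (h : IsCartan M A) {K K' : Set I}
    (hK : ∀ i ∈ K, ∀ j ∈ K', M i j = 2) : Orth A K K' := by
  intro i hi j hj
  obtain ⟨h1, h2⟩ := cartan_two h (hK i hi j hj)
  refine ⟨?_, h1, h2⟩
  rintro rfl
  have := hK i hi i hj
  rw [M.diagonal] at this
  omega

variable {r q l : ℕ} {M : CoxeterMatrix (Fin l)} {A : Fin l → Fin l → ℤ} {h : IsCartan M A} {f : Fin l → ℕ}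
  {S : Type*} [Group S] {T : Subgroup S} {n : Fin l → S} {X : (Fin l → ℤ) → Subgroup S}

/-- the input for a component of type `A_2` -/
def InA2 (h : IsCartan M A) (X : (Fin l → ℤ) → Subgroup S) (q : ℕ) (k₀ k₁ : Fin l) : Prop :=
  ∃ θ : ↥(MJ M.toCoxeterSystem h X {k₀, k₁}) → ℂ, Cusp M.toCoxeterSystem h X {k₀, k₁} θ ∧
    NonSwap M.toCoxeterSystem h X {k₀, k₁} k₀ k₁ θ ∧ ∃ d t : ℕ, θ 1 = d ∧ d * t = (q - 1) * (q ^ 2 - 1) ∧ t ∣ 3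

/-- the input for a component -/
def In (h : IsCartan M A) (X : (Fin l → ℤ) → Subgroup S) (K : Set (Fin l)) : Prop :=
  ∃ θ : ↥(MJ M.toCoxeterSystem h X K) → ℂ, Cusp M.toCoxeterSystem h X K θ

theorem In.union [Finite S] {J : Set (Fin l)} (D : ExcData r q h f J T n X) {K K' : Set (Fin l)}
    (hK : In h X K) (hK' : In h X K') (ho : ∀ i ∈ K, ∀ j ∈ K', M i j = 2) : In h X (K ∪ K') := by
  have := D.fin
  obtain ⟨θ, hθ⟩ := hK
  obtain ⟨θ', hθ'⟩ := hK'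
  obtain ⟨ψ, hψ, -⟩ := hθ.exists_prod D.rgd (orth_of h ho) hθ'
  exact ⟨ψ, hψ⟩

/-- **`F₄(q)`, `²E₆(q)`, `E₇(q)`, `E₈(q)`.** -/
theorem big_of_one [Finite S] (hr : r.Prime) (hq : 2 ≤ q) {j k₀ k₁ : Fin l} {K' : Set (Fin l)}
    (D : ExcData r q h f {i | i ≠ j} T n X) (hJ : ({i | i ≠ j} : Set (Fin l)) = {k₀, k₁} ∪ K')
    (ho : ∀ i ∈ ({k₀, k₁} : Set (Fin l)), ∀ i' ∈ K', M i i' = 2) (hk : M k₀ k₁ = 3) (hk1 : M k₁ j = 2)
    (hk0 : M k₀ j = 3 ∨ M k₀ j = 4)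
    (hun : ∀ a b, a ≠ j → b ≠ j → M a b = 3 → (∀ c, c ≠ j → c ≠ a → c ≠ b → M a c = 2 ∧ M b c = 2) →
      (a = k₀ ∧ b = k₁) ∨ (a = k₁ ∧ b = k₀))
    (hA2 : InA2 h X q k₀ k₁) (hK' : In h X K') : BigF r q S := by
  classical
  have := D.fin
  have : Fintype S := Fintype.ofFinite S
  obtain ⟨θ, hθ, hns, d, t, hd, hdt, ht⟩ := hA2
  obtain ⟨θ', hθ'⟩ := hK'
  have hmem : ∀ i, i ∈ ({i | i ≠ j} : Set (Fin l)) ↔ i ≠ j := fun i => Iff.rfl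
  have hk0J : k₀ ∈ ({i | i ≠ j} : Set (Fin l)) := by rw [hJ]; simp
  have hk1J : k₁ ∈ ({i | i ≠ j} : Set (Fin l)) := by rw [hJ]; simp
  obtain ⟨χ, hχ, k, hk0', hχ1⟩ := exists_irr_one D.rgd D.gg hmem hJ (orth_of h ho) rfl
    (isoPair_of h hk0J hk1J hk fun c hc hc0 hc1 => by
      rw [hJ] at hc
      rcases hc with hc | hc
      · rcases hc with rfl | rfl
        · exact absurd rfl hc0
        · exact absurd rfl hc1
      · exact ⟨ho _ (by simp) c hc, ho _ (by simp) c hc⟩)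
    (cartan_two h hk1).1 (not_three_dvd h hk0)
    (fun a b hab => by
      obtain ⟨h1, h2, h3, h4⟩ := of_isoPair h hab
      exact hun a b h1 h2 h3 h4)
    hθ hns hθ'
  obtain ⟨e, -, he⟩ := Cfsg.Agent.Characters.Core.isIrr_apply_one hθ'.irr
  refine ⟨χ, hχ, (PJ M.toCoxeterSystem h T X {i | i ≠ j}).index * (k * (d * e)), ?_, ?_, ?_⟩
  · rw [hχ1, hd, he]; push_cast; ring
  · intro ℓ hℓ h1 h2
    by_cases h3 : ℓ ∣ q - 1
    · have h4 := dvd_of_mul_eq hℓ hq h3 ht hdt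
      exact Dvd.dvd.mul_left (Dvd.dvd.mul_left (Dvd.dvd.mul_right h4 _) _) _
    · exact Dvd.dvd.mul_right (D.idx ℓ hℓ h1 (fun h4 => h2 ((Nat.prime_dvd_prime_iff_eq hℓ hr).1 h4)) h3) _
  · rw [← hdt]
    obtain ⟨t', ht'⟩ := ht
    exact ⟨t' * (PJ M.toCoxeterSystem h T X {i | i ≠ j}).index * k * e, by rw [ht']; ring⟩

/-- **`E₆(q)`.** -/
theorem big_of_two [Finite S] (hr : r.Prime) (hq : 2 ≤ q) {j k₀ k₁ l₀ l₁ : Fin l} {N : Set (Fin l)}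
    (D : ExcData r q h f {i | i ≠ j} T n X) (hJ : ({i | i ≠ j} : Set (Fin l)) = {k₀, k₁} ∪ ({l₀, l₁} ∪ N))
    (hoK : ∀ i ∈ ({k₀, k₁} : Set (Fin l)), ∀ i' ∈ ({l₀, l₁} ∪ N : Set (Fin l)), M i i' = 2)
    (hoL : ∀ i ∈ ({l₀, l₁} : Set (Fin l)), ∀ i' ∈ N, M i i' = 2)
    (hk : M k₀ k₁ = 3) (hk1 : M k₁ j = 2) (hk0 : M k₀ j = 3) (hl : M l₀ l₁ = 3) (hl1 : M l₁ j = 2) (hl0 : M l₀ j = 3)
    (hun : ∀ a b, a ≠ j → b ≠ j → M a b = 3 → (∀ c, c ≠ j → c ≠ a → c ≠ b → M a c = 2 ∧ M b c = 2) →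
      (a = k₀ ∧ b = k₁) ∨ (a = k₁ ∧ b = k₀) ∨ (a = l₀ ∧ b = l₁) ∨ (a = l₁ ∧ b = l₀))
    (hA2 : InA2 h X q k₀ k₁)
    (hL : ∃ α α' : ↥(MJ M.toCoxeterSystem h X {l₀, l₁}) → ℂ, Cusp M.toCoxeterSystem h X {l₀, l₁} α ∧
      Cusp M.toCoxeterSystem h X {l₀, l₁} α' ∧
      ∀ t (ht : t ∈ T), α' ≠ α ∘ conjME (MJ M.toCoxeterSystem h X {l₀, l₁}) (T_le_normalizer_MJ D.rgd {l₀, l₁} ht))
    (hN : In h X N) : BigF r q S := by
  classical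
  have := D.fin
  have : Fintype S := Fintype.ofFinite S
  obtain ⟨θ, hθ, hns, d, t, hd, hdt, ht⟩ := hA2
  obtain ⟨α, α', hα, hα', hne⟩ := hL
  obtain ⟨β, hβ⟩ := hN
  have hmem : ∀ i, i ∈ ({i | i ≠ j} : Set (Fin l)) ↔ i ≠ j := fun i => Iff.rfl
  have hk0J : k₀ ∈ ({i | i ≠ j} : Set (Fin l)) := by rw [hJ]; simp
  have hk1J : k₁ ∈ ({i | i ≠ j} : Set (Fin l)) := by rw [hJ]; simp
  have hl0J : l₀ ∈ ({i | i ≠ j} : Set (Fin l)) := by rw [hJ]; simp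
  have hl1J : l₁ ∈ ({i | i ≠ j} : Set (Fin l)) := by rw [hJ]; simp
  obtain ⟨χ, hχ, k, hk0', hχ1⟩ := exists_irr_two D.rgd D.gg hmem hJ (orth_of h hoK) (orth_of h hoL) rfl rfl
    (isoPair_of h hk0J hk1J hk fun c hc hc0 hc1 => by
      rw [hJ] at hc
      rcases hc with hc | hc
      · rcases hc with rfl | rfl
        · exact absurd rfl hc0
        · exact absurd rfl hc1
      · exact ⟨hoK _ (by simp) c hc, hoK _ (by simp) c hc⟩)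
    (isoPair_of h hl0J hl1J hl fun c hc hc0 hc1 => by
      rw [hJ] at hc
      rcases hc with hc | hc | hc
      · have e1 := hoK c hc l₀ (by simp)
        have e2 := hoK c hc l₁ (by simp)
        rw [M.symmetric] at e1 e2
        exact ⟨e1, e2⟩
      · rcases hc with rfl | rfl
        · exact absurd rfl hc0
        · exact absurd rfl hc1
      · exact ⟨hoL _ (by simp) c hc, hoL _ (by simp) c hc⟩)
    (cartan_two h hk1).1 (cartan_two h hl1).1 (not_three_dvd h (Or.inl hk0))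
    ((cartan_three h hl0).1.trans (cartan_three h hk0).1.symm)
    (fun a b hab => by
      obtain ⟨h1, h2, h3, h4⟩ := of_isoPair h hab
      exact hun a b h1 h2 h3 h4)
    hθ hns hα hα' hne hβ
  refine ⟨χ, hχ, (PJ M.toCoxeterSystem h T X {i | i ≠ j}).index * (k * d), ?_, ?_, ?_⟩
  · rw [hχ1, hd]; push_cast; ring
  · intro ℓ hℓ h1 h2
    by_cases h3 : ℓ ∣ q - 1
    · have h4 := dvd_of_mul_eq hℓ hq h3 ht hdt
      exact Dvd.dvd.mul_left (Dvd.dvd.mul_left h4 _) _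
    · exact Dvd.dvd.mul_right (D.idx ℓ hℓ h1 (fun h4 => h2 ((Nat.prime_dvd_prime_iff_eq hℓ hr).1 h4)) h3) _
  · rw [← hdt]
    obtain ⟨t', ht'⟩ := ht
    exact ⟨t' * (PJ M.toCoxeterSystem h T X {i | i ≠ j}).index * k, by rw [ht']; ring⟩

end Cfsg.Agent.H53.HC
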