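import Cfsg.Agent.H53.HC.RgdLevi
import Cfsg.Agent.H53.HC.WPerm
import Cfsg.Agent.S0887

/-!
# The multiplier of the Harish-Chandra induced characters (hub H5, helper53)

`exists_over'` : Clifford's theorem for `N ≤ P ≤ N_G(N)`; the degree ratio divides `|P : N|`.

`exists_irr_MJ'` : as `exists_irr_MJ`, the degree is `|G : P_J| k θ(1)` with `k ∣ |T|`.
-/

set_option autoImplicit false

open scoped ComplexConjugate Pointwise
open Cfsg

namespace Cfsg.Agent.H53.HC

open Cfsg.Agent.OddOrderCharacters.Clifford Cfsg.Agent.Characters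

section clif

variable {G : Type*} [Group G]

/-- **Clifford's theorem** for subgroups `N ≤ P ≤ N_G(N)`, with the divisibility of the degree ratio. -/
theorem exists_over' [Finite G] {N P : Subgroup G} (hNP : N ≤ P) (hn : P ≤ Subgroup.normalizer (N : Set G))
    {θ : N → ℂ} (hθ : IsIrrCharacter N θ) :
    ∃ ψ : P → ℂ, IsIrrCharacter P ψ ∧ (∃ m : ℕ, 0 < m ∧ ψ 1 = m * θ 1 ∧ m ∣ (N.subgroupOf P).index) ∧
      ∃ (c : ℂ) (s : Finset (N → ℂ)), (∀ x : N, ψ ⟨x, hNP x.2⟩ = c * ∑ φ ∈ s, φ x) ∧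
        ∀ φ ∈ s, ∃ g ∈ P, ∀ x (hx : x ∈ N), ∃ hx' : g * x * g⁻¹ ∈ N, φ ⟨x, hx⟩ = θ ⟨g * x * g⁻¹, hx'⟩ := by
  classical
  have : Fintype G := Fintype.ofFinite G
  have : Fintype P := Fintype.ofFinite P
  have : Fintype N := Fintype.ofFinite N
  let N' : Subgroup P := N.subgroupOf P
  have hN' : N'.Normal := (Subgroup.normal_subgroupOf_iff_le_normalizer hNP).2 hn
  have : Fintype N' := Fintype.ofFinite N'
  let e : N' ≃* N := Subgroup.subgroupOfEquivOfLe hNP
  have hθ' : IsIrrCharacter N' (θ ∘ e) := Core.isIrr_comp e.toMonoidHom e.surjective hθ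
  obtain ⟨ψ, hψ, hne⟩ := Cfsg.Agent.CharDeep.PowerDegrees.exists_irr_over N' hθ'
  refine ⟨ψ, hψ, ?_, classInner (fun n : N' => ψ n) (θ ∘ e),
    (Finset.univ.image (fun x : P => (θ ∘ e) ∘ (MulAut.conjNormal x : MulAut N'))).image (fun φ => φ ∘ e.symm), ?_, ?_⟩
  · obtain ⟨m, hm⟩ := Cfsg.Agent.CharDeep.PowerDegrees.degree_dvd N' hψ hθ' hne
    have h1 : (θ ∘ e) 1 = θ 1 := by rw [Function.comp_apply, map_one]
    obtain ⟨c, hc0, hc⟩ := Core.isIrr_apply_one hψ
    obtain ⟨d, hd0, hd⟩ := Core.isIrr_apply_one hθ'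
    have h2 := Cfsg.Agent.S0887.result N' ψ hψ (θ ∘ e) hθ' hne c d hc hd
    rw [h1] at hm hd
    have h3 : c = m * d := by
      rw [hc, hd] at hm
      exact_mod_cast hm
    have h4 : c / d = m := by
      rw [h3, Nat.mul_div_cancel _ hd0]
    refine ⟨m, Nat.pos_of_ne_zero ?_, hm, ?_⟩
    · rintro rfl
      rw [zero_mul] at h3
      omega
    · rw [← h4]
      exact h2.2
  · intro x
    have h1 := Cfsg.Agent.CharactersDeep.CliffordSum.restrict_eq_smul_sum N' hψ hθ' hne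
    have h2 := congrFun h1 (e.symm x)
    rw [Pi.smul_apply, Finset.sum_apply, smul_eq_mul] at h2
    rw [Finset.sum_image (by
      intro a _ b _ hab
      funext z
      have := congrFun hab (e z)
      simpa using this)]
    exact h2
  · intro φ hφ
    obtain ⟨φ', hφ', rfl⟩ := Finset.mem_image.1 hφ
    obtain ⟨g, -, rfl⟩ := Finset.mem_image.1 hφ'
    refine ⟨g, g.2, fun x hx => ?_⟩
    have h1 : (g : G) * x * (g : G)⁻¹ ∈ N := (Subgroup.mem_normalizer_iff.1 (hn g.2) x).1 hx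
    refine ⟨h1, ?_⟩
    rfl

end clif

section rgd

open CoxeterSystem Cfsg.Agent.ChevalleyStructure.CoxeterGeom Cfsg.Agent.Tits.Roots Cfsg.Agent.Tits.Core
  Cfsg.Agent.Tits.Exchange Cfsg.Agent.Nodes.Reps Cfsg.Agent.Nodes.BNOf Cfsg.Agent.Nodes.StabComb
  Cfsg.Agent.Nodes.Bruhat Cfsg.Agent.Nodes.OppDec Cfsg.Agent.Nodes.LeviDec

variable {I W Y : Type*} [Fintype I] [DecidableEq I] [Group W] [Group Y] {M : CoxeterMatrix I}
  {cs : CoxeterSystem M W} {A : I → I → ℤ} {h : IsCartan M A} {p : ℕ} {T : Subgroup Y} {n : I → Y}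
  {X : (I → ℤ) → Subgroup Y}

variable (R : RGD cs h p T n X)

include R

/-- `|L_J : M_J|` divides `|T|` -/
theorem relIndex_dvd [Finite Y] (J : Set I) : ((MJ cs h X J).subgroupOf (LJ cs h T X J)).index ∣ Nat.card T := by
  have hn : ((MJ cs h X J).subgroupOf (LJ cs h T X J)).Normal :=
    (Subgroup.normal_subgroupOf_iff_le_normalizer (MJ_le_LJ J)).2 (LJ_le_normalizer_MJ R J)
  have hT : T ≤ LJ cs h T X J := le_sup_left
  let g : T →* ↥(LJ cs h T X J) ⧸ (MJ cs h X J).subgroupOf (LJ cs h T X J) :=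
    (QuotientGroup.mk' _).comp (Subgroup.inclusion hT)
  have hg : Function.Surjective g := by
    intro y
    obtain ⟨⟨x, hx⟩, rfl⟩ := QuotientGroup.mk'_surjective _ y
    obtain ⟨t, ht, m, hm, e⟩ := (mem_LJ_iff_mul R J).1 hx
    refine ⟨⟨t, ht⟩, ?_⟩
    change (QuotientGroup.mk (Subgroup.inclusion hT ⟨t, ht⟩) : _ ⧸ _) = QuotientGroup.mk ⟨x, hx⟩
    rw [QuotientGroup.eq, Subgroup.mem_subgroupOf]
    change t⁻¹ * x ∈ MJ cs h X J
    rw [e, inv_mul_cancel_left]
    exact hm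
  rw [Subgroup.index_eq_card]
  exact Subgroup.card_dvd_of_surjective g hg

/-- **Irreducible characters of a group with a root group datum from the cuspidal characters of `M_J`**, the
multiplier divides the order of the torus. -/
theorem exists_irr_MJ' [Finite W] [Fintype Y] (hG : GG cs h T X = ⊤) (J : Set I)
    {θ : ↥(MJ cs h X J) → ℂ} (hθ : IsIrrCharacter _ θ)
    (hc : ∀ i ∈ J, ∀ [Fintype (rad cs h X J i)], ∑ u : rad cs h X J i, θ ⟨u, rad_le_MJ J i u.2⟩ = 0)
    (hs : ∀ w g (hg : Rp cs R.nsys w g), w ∉ WJ cs J → ∀ hw : Perm cs h J w,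
      ∃ (m : Y) (hm : m ∈ MJ cs h X J), θ ⟨g⁻¹ * m * g, conj_mem_MJ R hg hw hm⟩ ≠ θ ⟨m, hm⟩) :
    ∃ χ : Y → ℂ, IsIrrCharacter Y χ ∧ ∃ k : ℕ, 0 < k ∧ k ∣ Nat.card T ∧
      χ 1 = (PJ cs h T X J).index * (k * θ 1) := by
  classical
  obtain ⟨ψ, hψ, ⟨k, hk, hk1, hkd⟩, c, s, hres, hsφ⟩ := exists_over' (MJ_le_LJ (T := T) J) (LJ_le_normalizer_MJ R J) hθ
  obtain ⟨ψ', hψ', hψL, hψV⟩ := exists_infl R J hψ
  have hres' : ∀ (m : Y) (hm : m ∈ MJ cs h X J), ψ' ⟨m, LJ_le_PJ (MJ_le_LJ J hm)⟩ = c * ∑ φ ∈ s, φ ⟨m, hm⟩ := by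
    intro m hm
    rw [hψL]
    exact hres ⟨m, hm⟩
  -- the conjugates are conjugates under the torus
  have hsT : ∀ φ ∈ s, ∃ t, ∃ ht : t ∈ T, φ = θ ∘ conjME (MJ cs h X J) (T_le_normalizer_MJ R J ht) := by
    intro φ hφ
    obtain ⟨g, hg, hgφ⟩ := hsφ φ hφ
    obtain ⟨m, hm, t, ht, rfl⟩ := (mem_LJ_iff_mul' R J).1 hg
    refine ⟨t, ht, ?_⟩
    funext x
    obtain ⟨hx', e⟩ := hgφ x x.2
    rw [e, Function.comp_apply]
    have h1 := Core.isIrr_isClassFunction hθ (conjME (MJ cs h X J) (T_le_normalizer_MJ R J ht) x) ⟨m, hm⟩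
    rw [← h1]
    congr 1
    apply Subtype.ext
    simp only [conjME_coe, Subgroup.coe_mul, InvMemClass.coe_inv]
    group
  refine ⟨indFun (PJ cs h T X J) ψ', ?_, k, hk, hkd.trans (relIndex_dvd R J), ?_⟩
  · refine isIrr_indFun_rgd R hG J hψ' hψV ?_ ?_
    · intro i hi hf
      have h1 : ∀ u : rad cs h X J i, ψ' ⟨u, rad_le_PJ J i u.2⟩ = c * ∑ φ ∈ s, φ ⟨u, rad_le_MJ J i u.2⟩ :=
        fun u => hres' u (rad_le_MJ J i u.2)
      rw [Finset.sum_congr rfl fun u _ => h1 u, ← Finset.mul_sum, Finset.sum_comm]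
      rw [Finset.sum_eq_zero, mul_zero]
      intro φ hφ
      obtain ⟨t, ht, rfl⟩ := hsT φ hφ
      rw [← hc i hi]
      exact Fintype.sum_equiv (conjME (rad cs h X J i) (T_le_normalizer_rad R J i ht)).toEquiv _ _ fun u => rfl
    · intro w g hg hw hp
      have hgn := inv_mem (rp_mem_normalizer_MJ R hg hp)
      refine ⟨MJ cs h X J, le_trans (MJ_le_LJ J) LJ_le_PJ,
        fun l hl => LJ_le_PJ (MJ_le_LJ J (conj_mem_MJ R hg hp hl)), ?_⟩
      intro hf
      have h1 : ∀ l : MJ cs h X J, ψ' ⟨l, LJ_le_PJ (MJ_le_LJ J l.2)⟩ *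
          conj (ψ' ⟨g⁻¹ * l * g, LJ_le_PJ (MJ_le_LJ J (conj_mem_MJ R hg hp l.2))⟩) =
          ∑ φ ∈ s, ∑ φ' ∈ s, (c * conj c) * (φ l * conj ((φ' ∘ conjME (MJ cs h X J) hgn) l)) := by
        intro l
        have e2 : (⟨g⁻¹ * l * g, conj_mem_MJ R hg hp l.2⟩ : MJ cs h X J) = conjME (MJ cs h X J) hgn l := by
          apply Subtype.ext
          rw [conjME_coe, inv_inv]
        rw [hres' l l.2, hres' _ (conj_mem_MJ R hg hp l.2), e2, map_mul, map_sum]
        simp only [← Finset.mul_sum, Function.comp_apply]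
        rw [← Finset.sum_mul]
        ring
      rw [Finset.sum_congr rfl fun l _ => h1 l, Finset.sum_comm]
      refine Finset.sum_eq_zero fun φ hφ => ?_
      rw [Finset.sum_comm]
      refine Finset.sum_eq_zero fun φ' hφ' => ?_
      rw [← Finset.mul_sum]
      obtain ⟨t, ht, rfl⟩ := hsT φ hφ
      obtain ⟨t', ht', rfl⟩ := hsT φ' hφ'
      have hne : θ ∘ conjME (MJ cs h X J) (T_le_normalizer_MJ R J ht) ≠
          (θ ∘ conjME (MJ cs h X J) (T_le_normalizer_MJ R J ht')) ∘ conjME (MJ cs h X J) hgn := by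
        intro he
        have hg' : Rp cs R.nsys w (t * g * t'⁻¹) := by
          have h2 := ((rp_of_mem (cs := cs) (hN := R.nsys) ht).mul hg).mul
            (rp_of_mem (cs := cs) (hN := R.nsys) (inv_mem ht'))
          rwa [one_mul, mul_one] at h2
        obtain ⟨m, hm, hne⟩ := hs w _ hg' hw hp
        apply hne
        have h3 := congrFun he (conjME (MJ cs h X J) (inv_mem (T_le_normalizer_MJ R J ht)) ⟨m, hm⟩)
        simp only [Function.comp_apply] at h3
        refine Eq.trans ?_ (h3.symm.trans ?_)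
        · congr 1
          apply Subtype.ext
          simp only [conjME_coe]
          group
        · congr 1
          apply Subtype.ext
          simp only [conjME_coe]
          group
      have hi1 : IsIrrCharacter _ (θ ∘ conjME (MJ cs h X J) (T_le_normalizer_MJ R J ht)) :=
        Core.isIrr_comp (conjME _ (T_le_normalizer_MJ R J ht)).toMonoidHom (MulEquiv.surjective _) hθ
      have hi2 : IsIrrCharacter _ (θ ∘ conjME (MJ cs h X J) (T_le_normalizer_MJ R J ht')) :=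
        Core.isIrr_comp (conjME _ (T_le_normalizer_MJ R J ht')).toMonoidHom (MulEquiv.surjective _) hθ
      have hi3 : IsIrrCharacter _ ((θ ∘ conjME (MJ cs h X J) (T_le_normalizer_MJ R J ht')) ∘
          conjME (MJ cs h X J) hgn) :=
        Core.isIrr_comp (conjME _ hgn).toMonoidHom (MulEquiv.surjective _) hi2
      have h4 := Core.classInner_irr_ne hi1 hi3 hne
      rw [Core.classInner_def, mul_eq_zero] at h4
      rcases h4 with h4 | h4
      · exact absurd (inv_eq_zero.1 h4) Core.card_ne_zero_complex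
      · rw [mul_eq_zero]
        exact Or.inr h4
  · rw [indFun_one]
    congr 1
    rw [← hk1]
    exact hψL 1 (one_mem _)

end rgd

end Cfsg.Agent.H53.HC
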