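import Cfsg.Agent.H53.HC.Mult
import Cfsg.Agent.H246.Dl.KTypeMJ
import Cfsg.Agent.H717.Two.Prod

/-!
# Harish-Chandra series (hub H5, helper53)

`isIrr_indFun_of_sub` : `H ≤ P ≤ G`, `ψ ∈ Irr(H)` with all Mackey terms at `x ∉ P` zero: every irreducible constituent
`χ` of `Ind_H^P ψ` induces an irreducible character of `G`.

`exists_irr_series` : `J = K ∪ K'` orthogonal, every element of `W` permuting the simple roots of `K` lies in `W_J`, `θ` a
cuspidal character of `M_K`: an irreducible character of type `K` and of degree `|G : P_J| k θ(1)`, `k ∣ |T|`.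
-/

set_option autoImplicit false

open scoped ComplexConjugate
open Cfsg

namespace Cfsg.Agent.H53.HC

open Cfsg.Agent.OddOrderCharacters.Clifford Cfsg.Agent.Characters

section abs

variable {G : Type*} [Group G]

theorem ext_subgroupOf {H P : Subgroup G} (hHP : H ≤ P) (ψ : H → ℂ) (x : P) :
    extendByZero (H.subgroupOf P) (ψ ∘ Subgroup.subgroupOfEquivOfLe hHP) x = extendByZero H ψ x := by
  by_cases hx : (x : G) ∈ H
  · rw [ext_apply_mem H ψ _ hx, ext_apply_mem _ _ x (Subgroup.mem_subgroupOf.2 hx)]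
    rfl
  · rw [ext_apply_not_mem H ψ _ hx, ext_apply_not_mem _ _ x (fun h => hx (Subgroup.mem_subgroupOf.1 h))]

/-- the Mackey terms of an induced function -/
theorem twist_ind [Fintype G] {H P : Subgroup G} (hHP : H ≤ P) [Fintype H] [Fintype P] (ψ : H → ℂ) (x : G)
    (h : ∀ y, y ∉ P → twist H ψ ψ y = 0) (hx : x ∉ P) :
    twist P (indFun (H.subgroupOf P) (ψ ∘ Subgroup.subgroupOfEquivOfLe hHP))
      (indFun (H.subgroupOf P) (ψ ∘ Subgroup.subgroupOfEquivOfLe hHP)) x = 0 := by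
  classical
  set Ψ : P → ℂ := indFun (H.subgroupOf P) (ψ ∘ Subgroup.subgroupOfEquivOfLe hHP) with hΨ
  let c : ℂ := (Nat.card (H.subgroupOf P) : ℂ)⁻¹
  let E : G → ℂ := fun g => ∑ a : P, extendByZero H ψ ((a : G)⁻¹ * g * a)
  have hE : ∀ g, extendByZero P Ψ g = c * E g := by
    intro g
    by_cases hg : g ∈ P
    · rw [ext_apply_mem P Ψ g hg, hΨ, indFun_apply]
      congr 1
      refine Finset.sum_congr rfl fun a _ => ?_
      exact ext_subgroupOf hHP ψ _
    · rw [ext_apply_not_mem P Ψ g hg]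
      have h0 : E g = 0 := by
        refine Finset.sum_eq_zero fun a _ => ext_apply_not_mem H ψ _ fun h1 => hg ?_
        have h2 := mul_mem (mul_mem a.2 (hHP h1)) (inv_mem a.2)
        simpa [mul_assoc] using h2
      rw [h0, mul_zero]
  have h1 : twist P Ψ Ψ x = ∑ g : G, extendByZero P Ψ g * conj (extendByZero P Ψ (x⁻¹ * g * x)) := by
    rw [twist_def, sum_eq_sum_subgroup P (fun g => extendByZero P Ψ g * conj (extendByZero P Ψ (x⁻¹ * g * x)))]
    · refine Finset.sum_congr rfl fun t _ => ?_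
      rw [ext_apply_coe]
    · intro g hg
      rw [ext_apply_not_mem P Ψ g hg, zero_mul]
  have h2 : ∀ a b : P, ∑ g : G, extendByZero H ψ ((a : G)⁻¹ * g * a) *
      conj (extendByZero H ψ ((b : G)⁻¹ * (x⁻¹ * g * x) * b)) = 0 := by
    intro a b
    have h3 : (a : G)⁻¹ * x * b ∉ P := by
      intro h4
      apply hx
      have h5 := mul_mem (mul_mem a.2 h4) (inv_mem b.2)
      simpa [mul_assoc] using h5
    have h4 : twist H ψ ψ ((a : G)⁻¹ * x * b) = ∑ g : G, extendByZero H ψ g *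
        conj (extendByZero H ψ (((a : G)⁻¹ * x * b)⁻¹ * g * ((a : G)⁻¹ * x * b))) := by
      rw [twist_def, sum_eq_sum_subgroup H (fun g => extendByZero H ψ g *
        conj (extendByZero H ψ (((a : G)⁻¹ * x * b)⁻¹ * g * ((a : G)⁻¹ * x * b))))]
      · refine Finset.sum_congr rfl fun t _ => ?_
        rw [ext_apply_coe]
      · intro g hg
        rw [ext_apply_not_mem H ψ g hg, zero_mul]
    rw [← h _ h3, h4]
    refine Fintype.sum_equiv (MulAut.conj (a : G)⁻¹).toEquiv _ _ fun g => ?_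
    have e1 : (MulAut.conj (a : G)⁻¹).toEquiv g = (a : G)⁻¹ * g * a := by
      change (a : G)⁻¹ * g * ((a : G)⁻¹)⁻¹ = _
      rw [inv_inv]
    rw [e1]
    congr 3
    group
  rw [h1]
  have h3 : ∀ g : G, extendByZero P Ψ g * conj (extendByZero P Ψ (x⁻¹ * g * x)) =
      c * conj c * ∑ a : P, ∑ b : P, extendByZero H ψ ((a : G)⁻¹ * g * a) *
        conj (extendByZero H ψ ((b : G)⁻¹ * (x⁻¹ * g * x) * b)) := by
    intro g
    rw [hE, hE, map_mul]
    have e1 : ∑ a : P, ∑ b : P, extendByZero H ψ ((a : G)⁻¹ * g * a) *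
        conj (extendByZero H ψ ((b : G)⁻¹ * (x⁻¹ * g * x) * b)) = E g * conj (E (x⁻¹ * g * x)) := by
      simp only [E, map_sum]
      rw [Finset.sum_mul_sum]
    rw [e1]
    ring
  rw [Finset.sum_congr rfl fun g _ => h3 g, ← Finset.mul_sum, Finset.sum_comm]
  rw [Finset.sum_eq_zero, mul_zero]
  intro a _
  rw [Finset.sum_comm]
  exact Finset.sum_eq_zero fun b _ => h2 a b

/-- the Mackey terms of a constituent -/
theorem twist_mono [Finite G] (T : Subgroup G) [Fintype T] {α β : T → ℂ} (hα : IsCharacter T α) (hβ : IsCharacter T β)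
    {x : G} (h : twist T (α + β) (α + β) x = 0) : twist T α α x = 0 := by
  classical
  have : Fintype (dsub T x) := Fintype.ofFinite _
  have key : ∀ f g : T → ℂ, twist T f g x = (Nat.card (dsub T x) : ℂ) *
      classInner (f ∘ (dsub T x).subtype) (g ∘ dhom T x) := by
    intro f g
    rw [classInner_apply, mul_inv_cancel_left₀ card_ne_zero', twist_def, sum_eq_sum_subgroup (dsub T x)]
    · refine Finset.sum_congr rfl fun d _ => ?_
      rw [ext_apply_mem T g _ ((mem_dsub T x d).1 d.2)]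
      rfl
    · intro t ht
      rw [mem_dsub] at ht
      rw [ext_apply_not_mem T g _ ht, map_zero, mul_zero]
  rw [key] at h ⊢
  have h1 := (mul_eq_zero.1 h).resolve_left card_ne_zero'
  have ha : IsCharacter _ (α ∘ (dsub T x).subtype) := Core.isCharacter_comp _ hα
  have ha' : IsCharacter _ (α ∘ dhom T x) := Core.isCharacter_comp _ hα
  have hb : IsCharacter _ (β ∘ (dsub T x).subtype) := Core.isCharacter_comp _ hβ
  have hb' : IsCharacter _ (β ∘ dhom T x) := Core.isCharacter_comp _ hβ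
  have e1 : (α + β) ∘ (dsub T x).subtype = α ∘ (dsub T x).subtype + β ∘ (dsub T x).subtype := rfl
  have e2 : (α + β) ∘ dhom T x = α ∘ dhom T x + β ∘ dhom T x := rfl
  rw [e1, e2, Core.classInner_add_left, Core.classInner_add_right, Core.classInner_add_right] at h1
  obtain ⟨a, ea⟩ := Core.classInner_isNat ha ha'
  obtain ⟨b, eb⟩ := Core.classInner_isNat ha hb'
  obtain ⟨c, ec⟩ := Core.classInner_isNat hb ha'
  obtain ⟨d, ed⟩ := Core.classInner_isNat hb hb'
  rw [ea, eb, ec, ed] at h1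
  have h3 : a + b + (c + d) = 0 := by exact_mod_cast h1
  have h4 : a = 0 := by omega
  rw [ea, h4, Nat.cast_zero, mul_zero]

/-- **Constituents of induced characters stay irreducible.** -/
theorem isIrr_indFun_of_sub [Fintype G] {H P : Subgroup G} (hHP : H ≤ P) [Fintype H] [Fintype P] {ψ : H → ℂ}
    (hψ : IsIrrCharacter H ψ) (h : ∀ y, y ∉ P → twist H ψ ψ y = 0) {χ : P → ℂ} (hχ : IsIrrCharacter P χ)
    (hne : ∑ t : H, χ ⟨t, hHP t.2⟩ * conj (ψ t) ≠ 0) : IsIrrCharacter G (indFun P χ) := by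
  classical
  set Ψ : P → ℂ := indFun (H.subgroupOf P) (ψ ∘ Subgroup.subgroupOfEquivOfLe hHP) with hΨ
  have : Fintype (H.subgroupOf P) := Fintype.ofFinite _
  have hψ' : IsIrrCharacter (H.subgroupOf P) (ψ ∘ Subgroup.subgroupOfEquivOfLe hHP) :=
    Core.isIrr_comp (Subgroup.subgroupOfEquivOfLe hHP).toMonoidHom (MulEquiv.surjective _) hψ
  have hΨc : IsCharacter P Ψ := Cfsg.Agent.S0148.result _ _ (Core.isIrr_isCharacter hψ')
  have hinner : classInner Ψ χ ≠ 0 := by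
    rw [hΨ, classInner_indFun (H.subgroupOf P) _ _ (Core.isIrr_isClassFunction hχ), classInner_apply]
    refine mul_ne_zero (inv_ne_zero card_ne_zero') ?_
    intro h0
    apply hne
    have h1 := congrArg conj h0
    rw [map_zero, map_sum] at h1
    rw [← h1]
    refine (Fintype.sum_equiv (Subgroup.subgroupOfEquivOfLe hHP).toEquiv _ _ fun t => ?_).symm
    rw [map_mul, Complex.conj_conj, mul_comm]
    rfl
  have hc := Core.isIrr_isCharacter hχ
  rw [Core.isIrr_iff_classInner_self (Cfsg.Agent.S0148.result P _ hc)]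
  rw [classInner_indFun_eq P _ _ (Core.isIrr_isClassFunction hχ)]
  · exact Core.classInner_irr_self hχ
  · intro x hx
    have h1 := twist_ind hHP ψ x h hx
    have e : χ + (Ψ - χ) = Ψ := by ring
    refine twist_mono P hc (isCharacter_sub_irr hΨc hχ hinner) ?_
    rw [e]
    exact h1

end abs

section rgd

open CoxeterSystem Cfsg.Agent.ChevalleyStructure.CoxeterGeom Cfsg.Agent.Tits.Roots Cfsg.Agent.Tits.Core
  Cfsg.Agent.Tits.Exchange Cfsg.Agent.Nodes.Reps Cfsg.Agent.Nodes.BNOf Cfsg.Agent.Nodes.StabComb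
  Cfsg.Agent.Nodes.Bruhat Cfsg.Agent.Nodes.OppDec Cfsg.Agent.Nodes.LeviDec Cfsg.Agent.H246.Dl

variable {I W Y : Type*} [Fintype I] [DecidableEq I] [Group W] [Group Y] {M : CoxeterMatrix I}
  {cs : CoxeterSystem M W} {A : I → I → ℤ} {h : IsCartan M A} {p : ℕ} {T : Subgroup Y} {n : I → Y}
  {X : (I → ℤ) → Subgroup Y}

variable (R : RGD cs h p T n X)

include R

/-- **Harish-Chandra series.** `K ⊆ J`, all the elements of `W` permuting the simple roots of `K` lie in `W_J`;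
`χ` an irreducible character of `P_J` with `V_K`-fixed vectors and cuspidal on `K`. Then `Ind χ` is irreducible. -/
theorem HT_indFun [Finite W] [Fintype Y] (hG : GG cs h T X = ⊤) {K J : Set I} (hKJ : K ⊆ J)
    (hN : ∀ w, Perm cs h K w → w ∈ WJ cs J) {χ : ↥(PJ cs h T X J) → ℂ} (hχ : IsIrrCharacter _ χ)
    (hfix : ∀ [Fintype (VJ cs h X K)], ∑ v : VJ cs h X K, χ ⟨v, PJ_mono hKJ (VJ_le_PJ v.2)⟩ ≠ 0)
    (hc : ∀ i ∈ K, ∀ [Fintype (rad cs h X K i)],
      ∑ u : rad cs h X K i, χ ⟨u, PJ_mono hKJ (rad_le_PJ K i u.2)⟩ = 0) :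
    HT cs h X (indFun (PJ cs h T X J) χ) K := by
  classical
  have : Fintype (PJ cs h T X K) := Fintype.ofFinite _
  have : Fintype (PJ cs h T X J) := Fintype.ofFinite _
  have : Fintype (VJ cs h X K) := Fintype.ofFinite _
  have : Finite (IrrCharacter (PJ cs h T X K)) := Core.finite_irr
  have : Fintype (IrrCharacter (PJ cs h T X K)) := Fintype.ofFinite _
  have hPP : PJ cs h T X K ≤ PJ cs h T X J := PJ_mono hKJ
  have hres : IsCharacter (PJ cs h T X K) (χ ∘ Subgroup.inclusion hPP) :=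
    Core.isCharacter_comp _ (Core.isIrr_isCharacter hχ)
  obtain ⟨m, hm⟩ := Core.exists_nat_comb hres
  have hVP : VJ cs h X K ≤ PJ cs h T X K := VJ_le_PJ
  have hNor : ((VJ cs h X K).subgroupOf (PJ cs h T X K)).Normal :=
    (Subgroup.normal_subgroupOf_iff_le_normalizer hVP).2 (PJ_le_normalizer_VJ R K)
  have : Fintype ((VJ cs h X K).subgroupOf (PJ cs h T X K)) := Fintype.ofFinite _
  have h1 : (∑ v : VJ cs h X K, χ ⟨v, PJ_mono hKJ (VJ_le_PJ v.2)⟩ : ℂ) =
      ∑ ψ : IrrCharacter (PJ cs h T X K), (m ψ : ℂ) * ∑ v : VJ cs h X K, (ψ : PJ cs h T X K → ℂ) ⟨v, hVP v.2⟩ := by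
    symm
    simp only [Finset.mul_sum]
    rw [Finset.sum_comm]
    refine Finset.sum_congr rfl fun v _ => ?_
    have h2 := congrFun hm ⟨v, hVP v.2⟩
    simp only [Finset.sum_apply, nsmul_eq_mul] at h2
    exact h2.symm
  have hfix' := hfix
  rw [h1] at hfix'
  obtain ⟨ψ, -, hψ⟩ := Finset.exists_ne_zero_of_sum_ne_zero hfix'
  have hm0 : (m ψ : ℂ) ≠ 0 := left_ne_zero_of_mul hψ
  have hs0 := right_ne_zero_of_mul hψ
  have hV : ∀ (v : Y) (hv : v ∈ VJ cs h X K), (ψ : PJ cs h T X K → ℂ) ⟨v, VJ_le_PJ hv⟩ =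
      (ψ : PJ cs h T X K → ℂ) 1 := fun v hv =>
    const_of_sum_ne_zero ((VJ cs h X K).subgroupOf (PJ cs h T X K)) ψ.2 (by
      intro h0
      apply hs0
      rw [← h0]
      exact (Fintype.sum_equiv (Subgroup.subgroupOfEquivOfLe hVP).symm.toEquiv _ _ fun v => rfl)) _
      (by rw [Subgroup.mem_subgroupOf]; exact hv)
  have hψχ : classInner (χ ∘ Subgroup.inclusion hPP) (ψ : PJ cs h T X K → ℂ) ≠ 0 := by
    rw [hm, Core.classInner_sum_nsmul_irr]
    exact hm0
  have hcψ : ∀ i ∈ K, ∀ [Fintype (rad cs h X K i)],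
      ∑ u : rad cs h X K i, (ψ : PJ cs h T X K → ℂ) ⟨u, rad_le_PJ K i u.2⟩ = 0 := by
    intro i hi hf
    by_contra hne
    exact sum_hom_ne_zero (Subgroup.inclusion (rad_le_PJ (T := T) K i)) hres ψ.2 hψχ hne (hc i hi)
  -- the Mackey terms outside `P_J` vanish
  have htw : ∀ y, y ∉ PJ cs h T X J → twist (PJ cs h T X K) (ψ : PJ cs h T X K → ℂ) ψ y = 0 := by
    intro y hy
    have hψc := Core.isIrr_isCharacter ψ.2
    have hψf := Core.isIrr_isClassFunction ψ.2
    obtain ⟨a, ha, b, hb, w, g, hg, e, hwK, h2, h3⟩ := exists_min_rep R hG K (x := y) (fun h2 => hy (hPP h2))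
    rw [e, twist_mul _ hψf hψf ha hb]
    rcases perm_or h2 h3 with hp | ⟨i, hi, hrad⟩
    · exfalso
      apply hy
      rw [e]
      exact mul_mem (mul_mem (hPP ha) (LJ_le_PJ (rp_mem_LJ R (hN w hp) hg))) (hPP hb)
    · have hconj : ∀ l ∈ rad cs h X K i, g⁻¹ * l * g ∈ VJ cs h X K := fun l hl =>
        conj_mem_Sup' R hg (fun x hx => hx.1.1) hrad hl
      have : Fintype (rad cs h X K i) := Fintype.ofFinite _
      refine twist_eq_zero_of_sub _ hψc hψc g (rad cs h X K i) (rad_le_PJ K i) (fun l hl => VJ_le_PJ (hconj l hl)) ?_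
      have h3 : ∀ l : rad cs h X K i, (ψ : PJ cs h T X K → ℂ) ⟨l, rad_le_PJ K i l.2⟩ *
          conj ((ψ : PJ cs h T X K → ℂ) ⟨g⁻¹ * l * g, VJ_le_PJ (hconj l l.2)⟩) =
          (ψ : PJ cs h T X K → ℂ) ⟨l, rad_le_PJ K i l.2⟩ * conj ((ψ : PJ cs h T X K → ℂ) 1) := by
        intro l
        rw [hV _ (hconj l l.2)]
      rw [Finset.sum_congr rfl fun l _ => h3 l, ← Finset.sum_mul, hcψ i hi, zero_mul]
  have hirr : IsIrrCharacter Y (indFun (PJ cs h T X J) χ) := by
    refine isIrr_indFun_of_sub hPP ψ.2 htw hχ ?_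
    intro h0
    apply hψχ
    rw [classInner_apply]
    have e : ∑ t : PJ cs h T X K, (χ ∘ Subgroup.inclusion hPP) t * conj ((ψ : PJ cs h T X K → ℂ) t) =
        ∑ t : PJ cs h T X K, χ ⟨t, hPP t.2⟩ * conj ((ψ : PJ cs h T X K → ℂ) t) := rfl
    rw [e, h0, mul_zero]
  refine HT.of_psi R hG K ψ.2 hV hcψ hirr ?_
  apply classInner_symm_ne
  -- `χ` is a constituent of the restriction of `Ind χ` to `P_J`
  have hr : IsCharacter (PJ cs h T X J) (fun t : PJ cs h T X J => indFun (PJ cs h T X J) χ t) :=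
    Core.isCharacter_comp (PJ cs h T X J).subtype (Core.isIrr_isCharacter hirr)
  have h5 : classInner (fun t : PJ cs h T X J => indFun (PJ cs h T X J) χ t) χ ≠ 0 := by
    apply classInner_symm_ne
    rw [← classInner_indFun (PJ cs h T X J) χ _ (Core.isIrr_isClassFunction hirr), Core.classInner_irr_self hirr]
    exact one_ne_zero
  have h6 := isCharacter_sub_irr hr hχ h5
  have e7 : (fun t : PJ cs h T X K => indFun (PJ cs h T X J) χ t) = (χ ∘ Subgroup.inclusion hPP) +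
      ((fun t : PJ cs h T X J => indFun (PJ cs h T X J) χ t) - χ) ∘ Subgroup.inclusion hPP := by
    funext t
    simp
  rw [e7, Core.classInner_add_left]
  obtain ⟨a, ea⟩ := Core.classInner_isNat hres (Core.isIrr_isCharacter ψ.2)
  obtain ⟨b, eb⟩ := Core.classInner_isNat (Core.isCharacter_comp (Subgroup.inclusion hPP) h6)
    (Core.isIrr_isCharacter ψ.2)
  rw [ea] at hψχ
  rw [ea, eb]
  have ha0 : a ≠ 0 := by
    rintro rfl
    exact hψχ Nat.cast_zero
  have : a + b ≠ 0 := by omega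
  exact_mod_cast this

/-- **Irreducible characters of type `K` of degree divisible by `|G : P_{K ∪ K'}| θ(1)`.** -/
theorem exists_irr_series [Finite W] [Fintype Y] (hG : GG cs h T X = ⊤) {K K' : Set I} (ho : Orth A K K')
    (hN : ∀ w, Perm cs h K w → w ∈ WJ cs (K ∪ K')) {θ : ↥(MJ cs h X K) → ℂ} (hθ : Cusp cs h X K θ) :
    ∃ χ : Y → ℂ, HT cs h X χ K ∧ ∃ k : ℕ, 0 < k ∧ k ∣ Nat.card T ∧
      χ 1 = (PJ cs h T X (K ∪ K')).index * (k * θ 1) := by
  classical
  obtain ⟨ψ₀, hψ₀, hψ₀c, hval⟩ := H717.Two.exists_prod_left R ho hθ (ρ := fun _ => 1) Core.isIrr_one (fun _ _ => rfl)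
  obtain ⟨ψ, hψ, ⟨k, hk, hk1, hkd⟩, c, s, hres, hsφ⟩ :=
    exists_over' (MJ_le_LJ (T := T) (K ∪ K')) (LJ_le_normalizer_MJ R (K ∪ K')) hψ₀
  obtain ⟨ψ', hψ', hψL, hψV⟩ := exists_infl R (K ∪ K') hψ
  have hres' : ∀ (m : Y) (hm : m ∈ MJ cs h X (K ∪ K')), ψ' ⟨m, LJ_le_PJ (MJ_le_LJ (K ∪ K') hm)⟩ =
      c * ∑ φ ∈ s, φ ⟨m, hm⟩ := by
    intro m hm
    rw [hψL]
    exact hres ⟨m, hm⟩
  have hsT : ∀ φ ∈ s, ∃ t, ∃ ht : t ∈ T, φ = ψ₀ ∘ conjME (MJ cs h X (K ∪ K')) (T_le_normalizer_MJ R (K ∪ K') ht) := by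
    intro φ hφ
    obtain ⟨g, hg, hgφ⟩ := hsφ φ hφ
    obtain ⟨m, hm, t, ht, rfl⟩ := (mem_LJ_iff_mul' R (K ∪ K')).1 hg
    refine ⟨t, ht, ?_⟩
    funext x
    obtain ⟨hx', e⟩ := hgφ x x.2
    rw [e, Function.comp_apply]
    have h1 := Core.isIrr_isClassFunction hψ₀ (conjME (MJ cs h X (K ∪ K')) (T_le_normalizer_MJ R (K ∪ K') ht) x) ⟨m, hm⟩
    rw [← h1]
    congr 1
    apply Subtype.ext
    simp only [conjME_coe, Subgroup.coe_mul, InvMemClass.coe_inv]
    group
  have hle2 : MJ cs h X K' ≤ MJ cs h X (K ∪ K') := by rw [ho.MJ_union]; exact le_sup_right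
  -- `M_{K'}` acts trivially
  have hone : ∀ (b : Y) (hb : b ∈ MJ cs h X K'), ψ' ⟨b, LJ_le_PJ (MJ_le_LJ (K ∪ K') (hle2 hb))⟩ = ψ' 1 := by
    intro b hb
    have e1 : ψ' 1 = c * ∑ φ ∈ s, φ 1 := hres' 1 (one_mem _)
    rw [hres' b (hle2 hb), e1]
    congr 1
    refine Finset.sum_congr rfl fun φ hφ => ?_
    obtain ⟨t, ht, rfl⟩ := hsT φ hφ
    rw [Function.comp_apply, Function.comp_apply, map_one]
    have hb' : t * b * t⁻¹ ∈ MJ cs h X K' := (Subgroup.mem_normalizer_iff.1 (T_le_normalizer_MJ R K' ht) b).1 hb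
    obtain ⟨h2, h3⟩ := hval 1 (one_mem _) _ hb'
    obtain ⟨h4, h5⟩ := hval 1 (one_mem _) 1 (one_mem _)
    simp only [one_mul] at h3 h5
    exact h3.trans h5.symm
  have hVall : ∀ (v : Y) (hv : v ∈ VJ cs h X K), ψ' ⟨v, PJ_mono Set.subset_union_left (VJ_le_PJ hv)⟩ = ψ' 1 := by
    intro v hv
    obtain ⟨b, hb, v', hv', rfl⟩ := mem_VJ_of_orth R ho hv
    have hbM : b ∈ MJ cs h X K' := RGD.Sup_mono (fun x hx => PosJ_subset K' hx) hb
    have e1 : (⟨b * v', PJ_mono Set.subset_union_left (VJ_le_PJ hv)⟩ : ↥(PJ cs h T X (K ∪ K'))) =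
        ⟨b, LJ_le_PJ (MJ_le_LJ (K ∪ K') (hle2 hbM))⟩ * ⟨v', VJ_le_PJ hv'⟩ := rfl
    rw [e1, H686.CharKit.apply_mul_of_eq' (Core.isIrr_isCharacter hψ') (hψV v' hv'), hone b hbM]
  refine ⟨indFun (PJ cs h T X (K ∪ K')) ψ', HT_indFun R hG Set.subset_union_left hN hψ' ?_ ?_, k, hk,
    hkd.trans (relIndex_dvd R _), ?_⟩
  · intro hf
    rw [Finset.sum_congr rfl fun (v : VJ cs h X K) _ => hVall v v.2, Finset.sum_const, nsmul_eq_mul]
    refine mul_ne_zero ?_ (Core.isIrr_apply_one_ne_zero hψ')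
    exact_mod_cast Finset.card_ne_zero.2 ⟨1, Finset.mem_univ _⟩
  · intro i hi hf
    have hr : rad cs h X (K ∪ K') i = rad cs h X K i := ho.rad_eq hi
    have hle3 : rad cs h X K i ≤ MJ cs h X (K ∪ K') := by rw [← hr]; exact rad_le_MJ _ i
    have h1 : ∀ u : rad cs h X K i, ψ' ⟨u, PJ_mono Set.subset_union_left (rad_le_PJ K i u.2)⟩ =
        c * ∑ φ ∈ s, φ ⟨u, hle3 u.2⟩ := fun u => hres' u (hle3 u.2)
    rw [Finset.sum_congr rfl fun u _ => h1 u, ← Finset.mul_sum, Finset.sum_comm]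
    rw [Finset.sum_eq_zero, mul_zero]
    intro φ hφ
    obtain ⟨t, ht, rfl⟩ := hsT φ hφ
    have : Fintype (rad cs h X (K ∪ K') i) := Fintype.ofFinite _
    rw [← hψ₀c i (by exact hi)]
    have e2 : ∑ u : rad cs h X K i, (ψ₀ ∘ conjME (MJ cs h X (K ∪ K')) (T_le_normalizer_MJ R (K ∪ K') ht)) ⟨u, hle3 u.2⟩ =
        ∑ u : rad cs h X K i, ψ₀ ⟨u, hle3 u.2⟩ :=
      Fintype.sum_equiv (conjME (rad cs h X K i) (T_le_normalizer_rad R K i ht)).toEquiv _ _ fun u => rfl
    rw [e2]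
    exact Fintype.sum_equiv (MulEquiv.subgroupCongr hr.symm).toEquiv _ _ fun u => rfl
  · have h1 : ψ₀ 1 = θ 1 := by
      obtain ⟨h4, h5⟩ := hval 1 (one_mem _) 1 (one_mem _)
      simp only [mul_one] at h5
      exact h5
    rw [indFun_one]
    congr 1
    rw [← h1, ← hk1]
    exact hψL 1 (one_mem _)

end rgd

end Cfsg.Agent.H53.HC
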