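import Cfsg.Agent.H53.HC.Mult
import Cfsg.Agent.H53.HC.ExcIM
import Cfsg.Agent.H596.OneFacts

/-!
# Two characters of degree divisible by `p`, exceptional groups (FactTwo, hub H5, helper53)

`exists_irr_one'` : as `exists_irr_one`, with `k ∣ |T|`.

`exact_one` : the character of a maximal parabolic subgroup with a component of type `A_2`, with its degree.
-/

set_option autoImplicit false

open scoped ComplexConjugate
open Cfsg

namespace Cfsg.Agent.H53.HC

open Cfsg.Agent.OddOrderCharacters.Clifford Cfsg.Agent.Characters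

open CoxeterSystem Cfsg.Agent.ChevalleyStructure.CoxeterGeom Cfsg.Agent.Tits.Roots Cfsg.Agent.Tits.Core
  Cfsg.Agent.Tits.Exchange Cfsg.Agent.Nodes.Reps Cfsg.Agent.Nodes.BNOf Cfsg.Agent.Nodes.StabComb
  Cfsg.Agent.Nodes.Bruhat Cfsg.Agent.Nodes.OppDec Cfsg.Agent.Nodes.LeviDec Cfsg.Agent.H35.ExcIdx

section gen

variable {I W Y : Type*} [Fintype I] [DecidableEq I] [Group W] [Group Y] {M : CoxeterMatrix I}
  {cs : CoxeterSystem M W} {A : I → I → ℤ} {h : IsCartan M A} {p : ℕ} {T : Subgroup Y} {n : I → Y}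
  {X : (I → ℤ) → Subgroup Y}

variable (R : RGD cs h p T n X)

include R

/-- **One component of type `A_2`.** -/
theorem exists_irr_one' [Finite W] [Fintype Y] (hG : GG cs h T X = ⊤) {J K K' : Set I} {j : I}
    (hJ : ∀ i, i ∈ J ↔ i ≠ j) (hJK : J = K ∪ K') (ho : Orth A K K') {k₀ k₁ : I} (hK : K = {k₀, k₁})
    (hk : IsoPair A J k₀ k₁) (hk1 : A k₁ j = 0) (h3 : ¬ (3 : ℤ) ∣ A k₀ j)
    (hun : ∀ a b, IsoPair A J a b → (a = k₀ ∧ b = k₁) ∨ (a = k₁ ∧ b = k₀))
    {θ : ↥(MJ cs h X K) → ℂ} (hθ : Cusp cs h X K θ) (hns : NonSwap cs h X K k₀ k₁ θ)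
    {θ' : ↥(MJ cs h X K') → ℂ} (hθ' : Cusp cs h X K' θ') :
    ∃ χ : Y → ℂ, IsIrrCharacter Y χ ∧ ∃ k : ℕ, 0 < k ∧ k ∣ Nat.card T ∧
      χ 1 = (PJ cs h T X J).index * (k * (θ 1 * θ' 1)) := by
  subst hJK
  obtain ⟨ψ, hψ, hval⟩ := hθ.exists_prod R ho hθ'
  have hval1 : ψ 1 = θ 1 * θ' 1 := by
    obtain ⟨hab, e⟩ := hval 1 (one_mem _) 1 (one_mem _)
    simp only [mul_one] at e
    exact e
  rw [← hval1]
  refine exists_irr_MJ' R hG (K ∪ K') hψ.irr hψ.van ?_
  intro w g hg hw hp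
  obtain ⟨h0, h1⟩ := swap_of_iso hJ hk hk1 h3 hun hp hw
  exact not_stable_swap R rfl ho hK hns hθ'.irr hval hg hp h0 h1

/-- **No condition**, if no element of `W ∖ W_J` permutes the simple roots of `J`. -/
theorem exists_irr_free' [Finite W] [Fintype Y] (hG : GG cs h T X = ⊤) {J K K' : Set I}
    (hno : ∀ w : W, w ∉ WJ cs J → ¬ Perm cs h J w) (hJK : J = K ∪ K') (ho : Orth A K K')
    {θ : ↥(MJ cs h X K) → ℂ} (hθ : Cusp cs h X K θ) {θ' : ↥(MJ cs h X K') → ℂ} (hθ' : Cusp cs h X K' θ') :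
    ∃ χ : Y → ℂ, IsIrrCharacter Y χ ∧ ∃ k : ℕ, 0 < k ∧ k ∣ Nat.card T ∧
      χ 1 = (PJ cs h T X J).index * (k * (θ 1 * θ' 1)) := by
  subst hJK
  obtain ⟨ψ, hψ, hval⟩ := hθ.exists_prod R ho hθ'
  have hval1 : ψ 1 = θ 1 * θ' 1 := by
    obtain ⟨hab, e⟩ := hval 1 (one_mem _) 1 (one_mem _)
    simp only [mul_one] at e
    exact e
  rw [← hval1]
  refine exists_irr_MJ' R hG (K ∪ K') hψ.irr hψ.van ?_
  intro w g hg hw hp
  exact absurd hp (hno w hw)

omit R in
/-- **No element of `W ∖ W_J` permutes the simple roots of `J`** (all nodes but `j`), if there is a vector `u` in the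
root lattice, `u_j ≢ 0 mod 3`, with all pairings divisible by `3`. -/
theorem not_perm_of_mod [Finite W] {J : Set I} {j : I} (hJ : ∀ i, i ∈ J ↔ i ≠ j) {u : I → ℤ}
    (hu : ∀ i, (3 : ℤ) ∣ pairing A i u) (huj : ¬ (3 : ℤ) ∣ u j) {w : W} (hw : w ∉ WJ cs J) : ¬ Perm cs h J w := by
  intro hp
  have key : ∀ (w : W) (x : I → ℤ), (∀ i, (3 : ℤ) ∣ pairing A i x) →
      (∀ i, (3 : ℤ) ∣ pairing A i (rep cs h w x)) ∧ ∀ i, (3 : ℤ) ∣ rep cs h w x i - x i := by
    intro w
    induction w using cs.simple_induction_left with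
    | one =>
      intro x hx
      rw [map_one]
      exact ⟨hx, fun i => by simp⟩
    | mul_simple_left w i ih =>
      intro x hx
      obtain ⟨h1, h2⟩ := ih x hx
      rw [rep_mul_apply, rep_simple_eq]
      refine ⟨fun k => ?_, fun k => ?_⟩
      · have e : pairing A k (rep cs h w x - pairing A i (rep cs h w x) • sr i) =
            pairing A k (rep cs h w x) - pairing A i (rep cs h w x) * pairing A k (sr i) := by
          rw [sub_eq_add_neg, ← neg_smul, pairing_add, pairing_smul]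
          ring
        rw [e]
        exact dvd_sub (h1 k) ((h1 i).mul_right _)
      · have e : (rep cs h w x - pairing A i (rep cs h w x) • sr i) k - x k =
            (rep cs h w x k - x k) - pairing A i (rep cs h w x) * sr i k := by
          simp only [Pi.sub_apply, Pi.smul_apply, smul_eq_mul]
          ring
        rw [e]
        exact dvd_sub (h2 k) ((h1 i).mul_right _)
  obtain ⟨-, h2⟩ := key w u hu
  have h3 := h2 j
  rw [apply_eq_neg hJ hp hw u] at h3
  apply huj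
  have h4 : (3 : ℤ) ∣ 2 * u j := by
    have : 2 * u j = -(-u j - u j) := by ring
    rw [this]
    exact (dvd_neg).2 h3
  omega

end gen

end Cfsg.Agent.H53.HC
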