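import Cfsg.Agent.H53.HC.TwoTwE6
import Cfsg.Agent.H53.HC.ExcGraph

/-!
# Row `²E₆` of FactTwo in the form of helper717
-/

set_option autoImplicit false

namespace Cfsg.Agent.H53.HC.TwoRows

/-- **`²E₆(q)`**: root group datum of characteristic `r`, and `Two p S` for all the primes `p ≠ r` dividing `|S|`. -/
theorem cg_TwE6 {S : Type*} [Group S] (h : Lie.Iso2E6 S) : ∃ r : ℕ, r.Prime ∧ H396.HasCG r S ∧
    ∀ p : ℕ, p.Prime → p ≠ r → p ∣ Nat.card S → H596.OneFacts.Two p S := by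
  obtain ⟨r, hr, -, ⟨K, _, _, q, hq, hK, hch, ⟨e⟩⟩, h1⟩ := two_TwE6 h
  exact ⟨r, hr, (H396.CommTab.hasCG_twE6 hq hK r).of_equiv e.symm, fun p hp hpr hd => h1 p hp hd hpr⟩

end Cfsg.Agent.H53.HC.TwoRows
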